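import Cfsg.Agent.H827.S8.Kernel
import Cfsg.Agent.H25.S8.Norm
import Cfsg.Agent.H940.Struct
import Cfsg.Agent.H792.M23.Co13
import Cfsg.Agent.H630.TwoB.DivChart
import Cfsg.Agent.H979.Ore.CoOneBd
import Cfsg.Agent.H820.Joint
import Cfsg.Agent.TwoF.SpB.C1Small
import Cfsg.Agent.T44.Spor.Act
import Cfsg.Agent.Lib.CoprimeAbelian
import Cfsg.Agent.H957.EP.InfNeBot
import Cfsg.Agent.H497.Basic
import Cfsg.Agent.SB.SporA.Tool

/-!
# SM (S3570), the socle `Co1` (helper83): the subgroups of order divisible by 13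
-/

set_option autoImplicit false

namespace Cfsg.Agent.SM.SpB

open Cfsg Subgroup MulAction Cfsg.Agent.MonsterU.Lam2
open Cfsg.Spor (Co1)

theorem fin1 : Finite Co1 := H55.CoOneBd.finite_co1

theorem card1 : Nat.card Co1 = 4157776806543360000 := by rw [H55.CoOneBd.card_co1]

theorem stab2 {x : L2} (h : IsType 2 x) : Nat.card (stabilizer Co1 x) = 42305421312000 := H630.TwoB.DivChart.card_stab h

theorem stab3 {x : L2} (h : IsType 3 x) : Nat.card (stabilizer Co1 x) = 495766656000 :=
  H979.Ore.CoOneBd.card_stab ((MonsterU.Ch.qf_of_type h).trans (by decide))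

theorem stab4 {x : L2} (h : IsType 4 x) : Nat.card (stabilizer Co1 x) = 2048 * 244823040 := H820.Joint.card_stab h

/-- an element of order 13 has no fixed class -/
theorem fix13 {s : Co1} (hs : orderOf s = 13) {x : L2} (hx : s • x = x) : x = 0 := by
  have h := (stabilizer Co1 x).orderOf_dvd_natCard hx
  rcases type_cases x with k | k | k | k
  · exact k
  · rw [hs, stab2 k] at h
    exact absurd h (by norm_num)
  · rw [hs, stab3 k] at h
    exact absurd h (by norm_num)
  · rw [hs, stab4 k] at h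
    exact absurd h (by norm_num)

/-- the action in the multiplicative notation -/
noncomputable def rho : Co1 →* MulAut (Multiplicative L2) where
  toFun g :=
    { toFun := fun x => Multiplicative.ofAdd (g • x.toAdd)
      invFun := fun x => Multiplicative.ofAdd (g⁻¹ • x.toAdd)
      left_inv := fun x => inv_smul_smul g x.toAdd
      right_inv := fun x => smul_inv_smul g x.toAdd
      map_mul' := fun x y => smul_add g x.toAdd y.toAdd }
  map_one' := MulEquiv.ext fun x => one_smul Co1 x.toAdd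
  map_mul' g h := MulEquiv.ext fun x => mul_smul g h x.toAdd

/-- **no Frobenius group with a complement of order 13 and an odd kernel** -/
theorem frob {s : Co1} (hs : orderOf s = 13) {E : Subgroup Co1} (ho : (Nat.card E).Coprime 2)
    (hn : s ∈ normalizer (E : Set Co1)) (hc : E ⊓ centralizer {s} = ⊥) : E = ⊥ := by
  have := fin1
  by_contra h0
  obtain ⟨⟨u, hu⟩, hu1⟩ := ne_bot_iff_exists_ne_one.1 h0
  obtain ⟨x, hx⟩ : ∃ x : L2, u • x ≠ x := by
    by_contra h1
    push Not at h1
    exact hu1 (Subtype.ext (eq_of_smul fun x => (h1 x).trans (one_smul _ x).symm))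
  refine (H827.S8.exists_fix rho E (zpowers s)
    (fun g hg u hu => (mem_normalizer_iff.1 (zpowers_le.2 hn hg) u).1 hu) (fun u hu g hg h => ?_)
    ⟨u, hu, Multiplicative.ofAdd x, ho.coprime_dvd_right (orderOf_dvd_of_pow_eq_one (by
      rw [pow_two]; exact add_self x)), hx⟩).elim fun y h => h.1 (fix13 hs (h.2 s (mem_zpowers s)))
  · refine or_iff_not_imp_right.2 fun h1 => mem_bot.1 (hc ▸ ⟨hu, mem_centralizer_singleton_iff.2 ?_⟩)
    have h2 : Nat.card (zpowers g) ∣ 13 := by rw [← hs, ← Nat.card_zpowers]; exact card_dvd_of_le (zpowers_le.2 hg)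
    have h3 : zpowers g = zpowers s := eq_of_le_of_card_ge (zpowers_le.2 hg) (by
      rw [((Nat.dvd_prime (by norm_num)).1 h2).resolve_left fun h3 => h1 (zpowers_eq_bot.1 (card_eq_one.1 h3)),
        Nat.card_zpowers, hs])
    obtain ⟨k, rfl⟩ : s ∈ zpowers g := h3 ▸ mem_zpowers s
    exact (Commute.zpow_right (show Commute u g from h.symm) k).eq

theorem inf_dvd {s : Co1} (hs : orderOf s = 13) (E : Subgroup Co1) : Nat.card ↥(E ⊓ centralizer {s}) ∣ 156 :=
  H792.M23.Co13.cent13 hs ▸ card_dvd_of_le inf_le_right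

/-- no group of order `27` or `729` is normalized -/
theorem no_cube {s : Co1} (hs : orderOf s = 13) {E : Subgroup Co1} (hE : Nat.card E = 3 ^ 3 ∨ Nat.card E = 3 ^ 6)
    (hn : s ∈ normalizer (E : Set Co1)) : False := by
  have := fin1
  have h1 := H25.S8.card_modEq (by norm_num) hs E hn
  have h2 := inf_dvd hs E
  have h3 : Nat.card ↥(E ⊓ centralizer {s}) ∣ Nat.card E := card_dvd_of_le inf_le_left
  have h4 : Nat.card E ∣ 3 ^ 6 := by rcases hE with h | h <;> rw [h] <;> norm_num
  have h5 : Nat.card ↥(E ⊓ centralizer {s}) ∣ 3 := Nat.dvd_gcd h2 (h3.trans h4)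
  have h6 : Nat.card E % 13 = 1 := by rcases hE with h | h <;> rw [h] <;> norm_num
  have h7 := frob hs (Nat.Coprime.coprime_dvd_left h4 (by norm_num)) hn (card_eq_one.1
    (((Nat.dvd_prime Nat.prime_three).1 h5).resolve_right fun h7 => by
      rw [h7, Nat.ModEq, h6] at h1
      omega))
  rw [h7, card_bot] at hE
  omega

/-- abelian subgroups of order prime to `26` are centralized -/
theorem cent_ab {s : Co1} (hs : orderOf s = 13) {E : Subgroup Co1} (ho : (Nat.card E).Coprime 26)
    (hc : ∀ x ∈ E, ∀ y ∈ E, x * y = y * x) (hn : s ∈ normalizer (E : Set Co1)) : E ≤ centralizer {s} := by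
  have := fin1
  have h1 := zpowers_le.2 hn
  have h2 : ⁅E, zpowers s⁆ ≤ E := le_normalizer_iff_commutator_le_left.1 h1
  have h3 := Lib.CoprimeAbelian.inf_commutator_eq_bot (zpowers s) E hc h1
    (by rw [Nat.card_zpowers, hs]; exact (ho.coprime_dvd_right (by norm_num)).symm)
  have h4 : centralizer ({s} : Set Co1) ≤ centralizer (zpowers s : Set Co1) := fun a ha => by
    rintro _ ⟨k, rfl⟩
    exact (Commute.zpow_left (show Commute s a from (mem_centralizer_singleton_iff.1 ha).symm) k).eq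
  have h5 := frob hs ((ho.coprime_dvd_left (card_dvd_of_le h2)).coprime_dvd_right (by norm_num))
    (normalizer_commutator_ge_right E (zpowers s) (mem_zpowers s))
    (eq_bot_iff.2 fun a ha => h3 ▸ ⟨⟨h2 ha.1, h4 ha.2⟩, ha.1⟩)
  exact fun a ha => mem_centralizer_singleton_iff.2
    (commutator_eq_bot_iff_le_centralizer.1 h5 ha s (mem_zpowers s)).symm

theorem exists13 {G : Type} [Group G] [Finite G] {H : Subgroup G} (h : 13 ∣ Nat.card H) : ∃ s ∈ H, orderOf s = 13 := by
  have : Fact (Nat.Prime 13) := ⟨by norm_num⟩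
  obtain ⟨s, hs⟩ := exists_prime_orderOf_dvd_card' 13 h
  exact ⟨s, s.2, (orderOf_coe s).trans hs⟩

/-- a normal subgroup which is centralized by an element of order 13 -/
def Loc13 (Y : Subgroup Co1) : Prop :=
  ∃ (K : Subgroup Co1) (s : Co1), K ≠ ⊥ ∧ Y ≤ normalizer (K : Set Co1) ∧ orderOf s = 13 ∧ K ≤ centralizer {s} ∧
    (IsPGroup 2 K ∨ IsPGroup 3 K)

theorem loc13 {Y : Subgroup Co1} (h : 13 ∣ Nat.card Y) {N : Subgroup Y} (hN : N.Normal) (h0 : N ≠ ⊥)
    (h1 : ¬ 13 ∣ Nat.card N) : Loc13 Y := by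
  have := fin1
  have h2 : 13 ∣ N.index := ((by norm_num : Nat.Prime 13).dvd_mul.1 (N.card_mul_index ▸ h)).resolve_left h1
  have h3 : ∀ q, q.Prime → q ∣ Nat.card N → q = 2 ∨ q = 3 := fun q hq hd => by
    by_contra hn
    have := Fact.mk hq
    obtain ⟨P⟩ : Nonempty (Sylow q N) := inferInstance
    have h4 := Sylow.normalizer_sup_eq_top P
    have h5 : N.index ∣ Nat.card (normalizer ((P.map N.subtype : Subgroup Y) : Set Y)) := by
      rw [← relIndex_top_right, ← h4, relIndex_sup_right]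
      exact relIndex_dvd_card _ _
    obtain ⟨s, h6, h7⟩ := exists13 (h2.trans h5)
    have h8 : IsPGroup q ((P.map N.subtype).map Y.subtype) := (P.isPGroup'.map _).map _
    obtain ⟨k, hk⟩ := IsPGroup.iff_card.1 h8
    have h9 : q.Coprime 156 := (Nat.coprime_primes hq Nat.prime_two).2 (fun e => hn (Or.inl e)) |>.pow_right 2 |>.mul_right
      (((Nat.coprime_primes hq Nat.prime_three).2 fun e => hn (Or.inr e)).mul_right
        ((Nat.coprime_primes hq (by norm_num : Nat.Prime 13)).2 fun e => h1 (e ▸ hd)))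
    have h10 := frob ((orderOf_coe s).trans h7) (hk ▸ (h9.coprime_dvd_right (by norm_num)).pow_left k)
      (le_normalizer_map Y.subtype ⟨s, h6, rfl⟩) (card_eq_one.1 (Nat.eq_one_of_dvd_coprimes (h9.pow_left k)
        (hk ▸ card_dvd_of_le inf_le_left) (inf_dvd ((orderOf_coe s).trans h7) _)))
    rw [map_eq_bot_iff_of_injective _ Y.subtype_injective, map_eq_bot_iff_of_injective _ N.subtype_injective] at h10
    have h11 := P.dvd_card_of_dvd_card hd
    rw [h10, card_bot] at h11
    exact hq.one_lt.ne' (Nat.dvd_one.1 h11)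
  have : Nontrivial N := (nontrivial_iff_ne_bot N).2 h0
  obtain ⟨p, hp, E, h4, h5, h6, h7⟩ := H957.EP.exists_char_pgroup
    (H497.isSolvable_of_two_primes Nat.prime_two Nat.prime_three (by norm_num) h3)
  have := Fact.mk hp
  obtain ⟨s, h8, h9⟩ := exists13 h
  have h10 : Y ≤ normalizer (((E.map N.subtype).map Y.subtype : Subgroup Co1) : Set Co1) := fun y hy =>
    le_normalizer_map Y.subtype ⟨⟨y, hy⟩, (normalizer_eq_top_iff.2 inferInstance).ge (mem_top _), rfl⟩
  have h11 : IsPGroup p ((E.map N.subtype).map Y.subtype) := (h6.map _).map _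
  have h12 : (E.map N.subtype).map Y.subtype ≠ ⊥ := by
    rwa [Ne, map_eq_bot_iff_of_injective _ Y.subtype_injective, map_eq_bot_iff_of_injective _ N.subtype_injective]
  have h13 : ∀ x ∈ (E.map N.subtype).map Y.subtype, ∀ y ∈ (E.map N.subtype).map Y.subtype, x * y = y * x := by
    rintro _ ⟨_, ⟨x, hx, rfl⟩, rfl⟩ _ ⟨_, ⟨y, hy, rfl⟩, rfl⟩
    rw [← map_mul, ← map_mul, h7.comm x hx y hy, map_mul, map_mul]
  have h14 : ∀ x ∈ (E.map N.subtype).map Y.subtype, x ^ p = 1 := by
    rintro _ ⟨_, ⟨x, hx, rfl⟩, rfl⟩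
    rw [← map_pow, ← map_pow, h7.exp x hx, map_one, map_one]
  have h15 : p ∣ Nat.card N := ((h6.card_eq_or_dvd).resolve_left fun e => h5 (card_eq_one.1 e)).trans
    E.card_subgroup_dvd_card
  generalize (E.map N.subtype).map Y.subtype = K at h10 h11 h12 h13 h14
  rcases h3 p hp h15 with rfl | rfl
  · refine ⟨K, s, h12, h10, h9, fun a ha => mem_centralizer_singleton_iff.2 ?_, Or.inl h11⟩
    have : Fact (Nat.Prime 13) := ⟨by norm_num⟩
    have h16 := TwoF.SpB.C1.main.1 K ⟨⟨⟨fun a b => Subtype.ext (h13 a a.2 b b.2)⟩⟩, h14⟩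
    exact T44.Spor.le_cent_of_small (k := 11) (U := zpowers s) hp (by norm_num : Nat.Prime 13) (by norm_num) h11
      (IsPGroup.of_card (n := 1) (by rw [Nat.card_zpowers, h9, pow_one])) (zpowers_le.2 (h10 h8))
      (fun h17 => absurd ((Nat.le_of_dvd Nat.card_pos h17).trans h16) (by norm_num))
      (fun j h17 h18 => by interval_cases j <;> norm_num) (mem_zpowers s) a ha
  · obtain ⟨k, hk⟩ := IsPGroup.iff_card.1 h11
    exact ⟨K, s, h12, h10, h9, cent_ab h9 (hk ▸ Nat.Coprime.pow_left k (by norm_num)) h13 (h10 h8), Or.inr h11⟩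

/-- **the structure** -/
theorem str {Y : Subgroup Co1} (h : 13 ∣ Nat.card Y) (h5 : 5 ∣ Nat.card Y) : Loc13 Y ∨ ∃ L : Subgroup Y, L.Normal ∧
    IsSimpleGroup L ∧ (¬ ∀ a b : L, a * b = b * a) ∧ Nat.card Y ∣ Nat.card (MulAut L) ∧
      ∃ ν, 13 ∣ ν ∧ ν ∣ Nat.card L ∧ Nat.card L / ν % 13 = 1 ∧ ν * L.index ∣ 1872 := by
  have := fin1
  have hp : Nat.Prime 13 := by norm_num
  have := Fact.mk hp
  refine or_iff_not_imp_left.2 fun hn => ?_
  have hno : ∀ N : Subgroup Y, N.Normal → ¬ 13 ∣ Nat.card N → N = ⊥ := fun N h1 h2 => by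
    by_contra h3
    exact hn (loc13 h h1 h3 h2)
  have h2 : ¬ 13 ^ 2 ∣ Nat.card Y := fun h2 => absurd (card1 ▸ h2.trans Y.card_subgroup_dvd_card) (by norm_num)
  obtain ⟨L, h3, h4, h6⟩ := H940.Eng.exists_simple_normal hp h h2 hno
  obtain ⟨s, hs⟩ := exists_prime_orderOf_dvd_card' 13 h6
  have h7 : ¬ 13 ∣ (zpowers s).index := fun h7 => h2 (Dvd.dvd.trans (by
    rw [← (zpowers s).card_mul_index, Nat.card_zpowers, hs, pow_two]
    exact Nat.mul_dvd_mul_left _ h7) L.card_subgroup_dvd_card)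
  let P : Sylow 13 L := (IsPGroup.of_card (n := 1) (by rw [Nat.card_zpowers, hs, pow_one])).toSylow h7
  have h8 := Sylow.normalizer_sup_eq_top P
  have h9 : ((P : Subgroup L).map L.subtype) = zpowers (s : Y) := MonoidHom.map_zpowers _ s
  rw [h9] at h8
  have h10 : normalizer (P : Set L) = (normalizer (zpowers (s : Y) : Set Y)).subgroupOf L := by
    rw [subgroupOf_normalizer_eq (zpowers_le.2 s.2), ← h9, subgroupOf, comap_map_eq_self_of_injective L.subtype_injective]
    rfl
  have h11 : Nat.card (normalizer (P : Set L)) * L.index = Nat.card (normalizer (zpowers (s : Y) : Set Y)) := by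
    rw [← relIndex_top_right, ← h8, relIndex_sup_right, h10, ← inf_subgroupOf_right, Nat.card_congr
      (subgroupOfEquivOfLe inf_le_right).toEquiv, inf_comm, ← Nat.card_congr (subgroupOfEquivOfLe inf_le_right).toEquiv,
      inf_subgroupOf_right]
    exact card_mul_index _
  have hs' : orderOf ((s : Y) : Co1) = 13 := by rw [orderOf_coe, orderOf_coe, hs]
  have h12 : Nat.card (normalizer (P : Set L)) * L.index ∣ 1872 := by
    have a1 := SB.SporA.norm_dvd hp hs'
    rw [H792.M23.Co13.cent13 hs'] at a1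
    refine Dvd.dvd.trans ?_ a1
    rw [h11, ← card_map_of_injective Y.subtype_injective]
    exact card_dvd_of_le ((le_normalizer_map _).trans_eq (by rw [MonoidHom.map_zpowers]; rfl))
  have h13 : ¬ ∀ a b : L, a * b = b * a := fun h13 => by
    have a1 : normalizer (P : Set L) = ⊤ := normalizer_eq_top_iff.2 ⟨fun a ha b => by rwa [h13 b a, mul_inv_cancel_right]⟩
    rw [a1, card_top, L.card_mul_index] at h12
    exact absurd (h5.trans h12) (by norm_num)
  have h14 : 13 ∣ Nat.card (normalizer (P : Set L)) := by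
    have a1 := card_dvd_of_le (H := zpowers s) le_normalizer
    rwa [Nat.card_zpowers, hs] at a1
  refine ⟨L, h3, h4, h13, ?_, _, h14, card_subgroup_dvd_card _, ?_, h12⟩
  · have a1 : ∀ z ∈ centralizer (L : Set Y), z ∈ L → z = 1 := fun z hz hL => by
      rcases h4.eq_bot_or_eq_top_of_normal (center L) inferInstance with e | e
      · have a1 : (⟨z, hL⟩ : L) ∈ center L := mem_center_iff.2 fun y => Subtype.ext (hz y y.2)
        rw [e, mem_bot] at a1
        exact congrArg Subtype.val a1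
      · exact absurd (fun a b => mem_center_iff.1 (e ▸ mem_top b) a) h13
    have a2 : centralizer (L : Set Y) = ⊥ := hno _ inferInstance fun a2 => by
      obtain ⟨z, a3, a4⟩ := exists13 a2
      have a5 : (QuotientGroup.mk z : Y ⧸ L) = 1 := orderOf_eq_one_iff.1 (Nat.eq_one_of_dvd_coprimes
        ((Nat.Prime.coprime_iff_not_dvd hp).2 fun a5 => h2 (by
          rw [← L.card_mul_index, pow_two]; exact Nat.mul_dvd_mul h6 a5))
        (a4 ▸ orderOf_map_dvd (QuotientGroup.mk' L) z) (orderOf_dvd_natCard _))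
      rw [a1 z a3 ((QuotientGroup.eq_one_iff z).1 a5), orderOf_one] at a4
      omega
    refine card_dvd_of_injective (MulAut.conjNormal (H := L)) ((injective_iff_map_eq_one _).2 fun y hy => ?_)
    rw [← mem_bot, ← a2]
    intro l hl
    have a3 : y * l * y⁻¹ = l := congrArg (fun φ : MulAut L => (φ ⟨l, hl⟩ : Y)) hy
    exact (mul_inv_eq_iff_eq_mul.1 a3).symm
  · rw [← (normalizer (P : Set L)).card_mul_index, Nat.mul_div_cancel_left _ Nat.card_pos]
    exact P.card_eq_index_normalizer ▸ card_sylow_modEq_one 13 L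

end Cfsg.Agent.SM.SpB
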