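import Cfsg.Agent.SM.SpB.Vec
import Cfsg.Agent.SM.SpB.Str
import Cfsg.Agent.SM.Sp.NoS
import Cfsg.Agent.TH.Spor.InC
import Cfsg.Agent.H487.SchurPerfect
import Cfsg.Agent.H219.HerAlt
import Cfsg.Agent.H352.Order120
import Cfsg.Agent.S2044
import Cfsg.Agent.S2045

/-!
# SM (S3570), the socle `Co1` (helper83): the subgroups `Co2`, `Co3` are stabilizers; no maximal `A₅` in `Co3`
-/

set_option autoImplicit false

namespace Cfsg.Agent.SM.SpB

open Cfsg Subgroup MulAction Module Cfsg.Agent.MonsterU.Lam2 Cfsg.Agent.H419.LeechIrr Cfsg.Agent.TAB Cfsg.Agent.TAB.Eng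
  Cfsg.Agent.TAB.Use Cfsg.Agent.TH.Spor Cfsg.Agent.H219.HerSmall
open Cfsg.Spor (Co1)

theorem iso2 {S : Type} [Group S] [Finite S] (hs : IsSimpleGroup S) (hn : ¬ IsMulCommutative S)
    (h : Nat.card S = 42305421312000) : Spor.IsoCo2 S := by
  obtain ⟨g, hg, hr⟩ := Sp.NoS.name hs hn h (l := [(2, 18), (3, 6), (5, 3), (7, 1), (11, 1), (23, 1)]) (by decide +kernel)
    (L := [.co2]) (by decide +kernel)
  obtain rfl := List.mem_singleton.1 hg
  exact hr

theorem iso3 {S : Type} [Group S] [Finite S] (hs : IsSimpleGroup S) (hn : ¬ IsMulCommutative S)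
    (h : Nat.card S = 495766656000) : Spor.IsoCo3 S := by
  obtain ⟨g, hg, hr⟩ := Sp.NoS.name hs hn h (l := [(2, 10), (3, 7), (5, 3), (7, 1), (11, 1), (23, 1)]) (by decide +kernel)
    (L := [.co3]) (by decide +kernel)
  obtain rfl := List.mem_singleton.1 hg
  exact hr

variable {X A : Subgroup Co1}

theorem lift {P : Type} [Group P] (e : X ≃* P) (hs : IsSimpleGroup X) (hn : ¬ IsMulCommutative X)
    (hM : HasCyclicSchurMultiplier P 1) : ∃ f : X →* Co0, (∀ (t : X) (x : L2), f t • x = (t : Co1) • x) ∧ ∃ g, f g ≠ 1 := by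
  have := fin1
  have : Finite P := Finite.of_equiv _ e.toEquiv
  have h1 : Group.IsPerfect X := ⟨(hs.eq_bot_or_eq_top_of_normal (commutator X) inferInstance).resolve_left fun h =>
    hn ⟨⟨fun a b => commutatorElement_eq_one_iff_mul_comm.1 (mem_bot.1 (h ▸ commutator_mem_commutator (mem_top a)
      (mem_top b)))⟩⟩⟩
  obtain ⟨η, h⟩ := H487.exists_lift_of_trivial (Group.IsPerfect.ofSurjective (f := e.toMonoidHom) e.surjective) hM
    (X.subtype.comp e.symm.toMonoidHom) (QuotientGroup.mk'_surjective (center Co0)) (QuotientGroup.ker_mk' _).le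
  have h2 : ∀ t : X, (QuotientGroup.mk (η (e t)) : Co1) = t := fun t =>
    (DFunLike.congr_fun h (e t)).trans (congrArg Subtype.val (e.symm_apply_apply t))
  obtain ⟨g, hg⟩ := exists_ne (1 : X)
  exact ⟨η.comp e.toMonoidHom, fun t x => by rw [← h2 t]; rfl, g, fun k => hg (Subtype.ext (by
    rw [← h2 g, show η (e g) = 1 from k]; rfl))⟩

theorem eq_stab {x : L2} (h : X ≤ stabilizer Co1 x) (h0 : x ≠ 0) :
    (Nat.card X = 42305421312000 → IsType 2 x ∧ X = stabilizer Co1 x) ∧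
      (Nat.card X = 495766656000 → IsType 3 x ∧ X = stabilizer Co1 x) := by
  have := fin1
  have h1 := card_dvd_of_le h
  rcases (type_cases x).resolve_left h0 with k | k | k
  · rw [stab2 k] at h1
    exact ⟨fun e => ⟨k, eq_of_le_of_card_ge h (by rw [e, stab2 k])⟩, fun e => absurd (e ▸ h1) (by norm_num)⟩
  · rw [stab3 k] at h1
    exact ⟨fun e => absurd (e ▸ h1) (by norm_num), fun e => ⟨k, eq_of_le_of_card_ge h (by rw [e, stab3 k])⟩⟩
  · rw [stab4 k] at h1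
    exact ⟨fun e => absurd (e ▸ h1) (by norm_num), fun e => absurd (e ▸ h1) (by norm_num)⟩

/-- **`Co2` is a stabilizer** -/
theorem fix2 (hs : IsSimpleGroup X) (hn : ¬ IsMulCommutative X) (h : Nat.card X = 42305421312000) :
    ∃ x, IsType 2 x ∧ X = stabilizer Co1 x := by
  have := fin1
  obtain ⟨e⟩ := iso2 hs hn h
  obtain ⟨T, -, hT, -⟩ := in_co2 (K := X) ⟨e⟩
  obtain ⟨χ, hE⟩ := Co2.deg_eq ▸ hT.degList
  obtain ⟨f, h1, h2⟩ := lift e hs hn S2044.result
  obtain ⟨v, h3, h4⟩ := exists_cl0 f (lchi_dec hE (by decide) rfl (by decide +kernel) f h2).2.ge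
  exact ⟨_, (eq_stab (fun t ht => (h1 ⟨t, ht⟩ _).symm.trans (congrArg cl (h3 _))) h4).1 h⟩

theorem dec3 (hs : IsSimpleGroup X) (hn : ¬ IsMulCommutative X) (h : Nat.card X = 495766656000) :
    ∃ (f : X →* Co0) (v : leechLattice) (T : TD X Co3.D), (∀ (t : X) (x : L2), f t • x = (t : Co1) • x) ∧
      (∀ t, f t • v = v) ∧ cl v ≠ 0 ∧ ∀ g, lchi f g = (1 + (Co3.A.getD 1 []).getD (T.ty g) 0 : ℤ) := by
  have := fin1
  obtain ⟨e⟩ := iso3 hs hn h
  obtain ⟨T, -, ⟨χ, hE, hR⟩, -⟩ := in_co3 (K := X) ⟨e⟩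
  obtain ⟨f, h1, h2⟩ := lift e hs hn S2045.result
  obtain ⟨h5, h6⟩ := lchi_dec hE (by decide +kernel) (by decide +kernel) (by decide +kernel) f h2
  obtain ⟨v, h3, h4⟩ := exists_cl0 f h6.ge
  refine ⟨f, v, T, h1, h3, h4, fun g => ?_⟩
  rw [h5, hR.row (r := ([(1, 1)], Co3.A.getD 1 [])) (by decide +kernel) rfl]
  simp

/-- **`Co3` is a stabilizer** -/
theorem fix3 (hs : IsSimpleGroup X) (hn : ¬ IsMulCommutative X) (h : Nat.card X = 495766656000) :
    ∃ x, IsType 3 x ∧ X = stabilizer Co1 x := by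
  obtain ⟨f, v, -, h1, h3, h4, -⟩ := dec3 hs hn h
  exact ⟨_, (eq_stab (fun t ht => (h1 ⟨t, ht⟩ _).symm.trans (congrArg cl (h3 _))) h4).2 h⟩

/-! ### `A₅` -/

/-- an element of order five -/
def y5 : alternatingGroup (Fin 5) := ⟨Equiv.swap 4 0 * Equiv.swap 0 2 * Equiv.swap 2 3 * Equiv.swap 3 1, by
  simp [Equiv.Perm.mem_alternatingGroup, Equiv.Perm.sign_swap']⟩

theorem conj5 : ∀ g : alternatingGroup (Fin 5), g ≠ 1 → g ^ 5 = 1 →
    ∃ c : alternatingGroup (Fin 5), g = c * y5 * c⁻¹ ∨ g = c * y5 ^ 2 * c⁻¹ := by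
  decide +kernel

/-- the values -/
def psi (a b c : ℤ) (g : alternatingGroup (Fin 5)) : ℤ := if g = 1 then 24 else if g ^ 2 = 1 then a else if g ^ 3 = 1 then b else c

theorem sub_sum (f : alternatingGroup (Fin 5) →* Co0) {a b c : ℤ} (hf : ∀ g, lchi f g = psi a b c g)
    (U : Subgroup (alternatingGroup (Fin 5))) (p : alternatingGroup (Fin 5) → Prop) [DecidablePred p] (h : ∀ g, p g ↔ g ∈ U) :
    ∑ g ∈ Finset.univ.filter p, psi a b c g = (Finset.univ.filter p).card * finrank ℂ (inv (f.comp U.subtype)) := by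
  have := Fintype.ofFinite U
  have h1 := sum_lchi (f.comp U.subtype)
  have h2 : ∀ g, g ∈ Finset.univ.filter p ↔ g ∈ U := fun g => by simp [h]
  rw [show ∑ g, lchi (f.comp U.subtype) g = ∑ g : U, lchi f g from rfl, ← Finset.sum_subtype _ h2,
    Nat.subtype_card _ h2, Finset.sum_congr rfl fun g _ => hf g] at h1
  exact_mod_cast h1

/-- `S₃` -/
def s3 : Subgroup (alternatingGroup (Fin 5)) where
  carrier := {g | (g.1 3 = 3 ∧ g.1 4 = 4) ∨ (g.1 3 = 4 ∧ g.1 4 = 3)}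
  one_mem' := Or.inl ⟨rfl, rfl⟩
  mul_mem' := by
    rintro a b (⟨h1, h2⟩ | ⟨h1, h2⟩) (⟨h3, h4⟩ | ⟨h3, h4⟩) <;> simp [h1, h2, h3, h4]
  inv_mem' := by
    rintro a (⟨h1, h2⟩ | ⟨h1, h2⟩) <;> simp [Equiv.symm_apply_eq, h1, h2]

theorem num5 : ∀ a ∈ ([8, 0] : List ℤ), ∀ b ∈ ([-3, 6, 0] : List ℤ), ∀ c ∈ ([-1, 4] : List ℤ),
    ∑ g ∈ Finset.univ.filter (fun _ => True), psi a b c g ≠ 60 ∨
      ∑ g ∈ Finset.univ.filter (fun g : alternatingGroup (Fin 5) => g.1 4 = 4), psi a b c g < 12 ∨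
      2 * ∑ g ∈ Finset.univ.filter (fun g : alternatingGroup (Fin 5) => g.1 3 = 3 ∧ g.1 4 = 4), psi a b c g <
        ∑ g ∈ Finset.univ.filter (fun g : alternatingGroup (Fin 5) => (g.1 3 = 3 ∧ g.1 4 = 4) ∨ (g.1 3 = 4 ∧ g.1 4 = 3)),
          psi a b c g := by
  decide +kernel

theorem two_le (f : alternatingGroup (Fin 5) →* Co0) {a b c : ℤ} (hf : ∀ g, lchi f g = psi a b c g)
    (ha : a ∈ ([8, 0] : List ℤ)) (hb : b ∈ ([-3, 6, 0] : List ℤ)) (hc : c ∈ ([-1, 4] : List ℤ)) {v : leechLattice}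
    (hv : ∀ g, f g • v = v) (h0 : cl v ≠ 0) : 1 < finrank ℂ (inv f) := by
  have h1 := sub_sum f hf ⊤ (fun _ => True) fun g => ⟨fun _ => mem_top g, fun _ => trivial⟩
  have h2 := sub_sum f hf (stabilizer _ (4 : Fin 5)) (fun g => g.1 4 = 4) fun g => Iff.rfl
  have h3 := sub_sum f hf (stabilizer _ (3 : Fin 5) ⊓ stabilizer _ (4 : Fin 5)) (fun g => g.1 3 = 3 ∧ g.1 4 = 4)
    fun g => Iff.rfl
  have h4 := sub_sum f hf s3 (fun g => (g.1 3 = 3 ∧ g.1 4 = 4) ∨ (g.1 3 = 4 ∧ g.1 4 = 3)) fun g => Iff.rfl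
  have h5 := pos_of_fix (f.comp (stabilizer _ (4 : Fin 5)).subtype) (fun g => hv g) h0
  have h6 : finrank ℂ (inv (f.comp s3.subtype)) ≤
      finrank ℂ (inv (f.comp (stabilizer _ (3 : Fin 5) ⊓ stabilizer _ (4 : Fin 5)).subtype)) :=
    Submodule.finrank_mono fun y hy g => hy ⟨g.1, Or.inl g.2⟩
  have h7 : finrank ℂ (inv (f.comp (⊤ : Subgroup (alternatingGroup (Fin 5))).subtype)) ≤ finrank ℂ (inv f) :=
    Submodule.finrank_mono fun y hy g => hy ⟨g, mem_top g⟩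
  have h8 := pos_of_fix (f.comp (⊤ : Subgroup (alternatingGroup (Fin 5))).subtype) (fun g => hv g) h0
  rw [show Finset.card _ = 60 by decide +kernel] at h1
  rw [show Finset.card _ = 12 by decide +kernel] at h2
  rw [show Finset.card _ = 3 by decide +kernel] at h3
  rw [show Finset.card _ = 6 by decide +kernel] at h4
  have := num5 a ha b hb c hc
  omega

/-- **no maximal subgroup `A₅`** -/
theorem sixty (hs : IsSimpleGroup X) (hn : ¬ IsMulCommutative X) (h : Nat.card X = 495766656000)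
    (hN : normalizer (X : Set Co1) ≤ X) (hA : A ⋖ X) (hc : Nat.card A = 60) (h5 : ¬ Group.IsSolvable A) : False := by
  have := fin1
  have : Fact (Nat.Prime 5) := ⟨by norm_num⟩
  obtain ⟨f, v, T, h1, h3, h4, h6⟩ := dec3 hs hn h
  obtain ⟨e⟩ := H352.Order120.alt5_of_card_60 hc h5
  let φ : alternatingGroup (Fin 5) →* X := (inclusion hA.le).comp e.symm.toMonoidHom
  have hφ : Function.Injective φ := (inclusion_injective hA.le).comp e.symm.injective
  have o : ∀ g, Co3.D.ord (T.ty (φ g)) = orderOf g := fun g => by rw [← T.ord, orderOf_injective φ hφ]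
  have cj : ∀ c g, T.ty (φ (c * g * c⁻¹)) = T.ty (φ g) := fun c g => by rw [map_mul, map_mul, map_inv, T.conj]
  have o5 : orderOf y5 = 5 := orderOf_eq_prime (by decide +kernel) (by decide +kernel)
  have k : ∀ t < Co3.D.n, (Co3.D.ord t = 1 → 1 + (Co3.A.getD 1 []).getD t 0 = 24) ∧
      (Co3.D.ord t = 2 → 1 + (Co3.A.getD 1 []).getD t 0 ∈ ([8, 0] : List ℤ)) ∧
      (Co3.D.ord t = 3 → 1 + (Co3.A.getD 1 []).getD t 0 ∈ ([-3, 6, 0] : List ℤ)) ∧
      (Co3.D.ord t = 5 → 1 + (Co3.A.getD 1 []).getD t 0 ∈ ([-1, 4] : List ℤ) ∧ Co3.D.pwf t 2 = t) := by decide +kernel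
  have k5 := (k _ (T.lt _)).2.2.2 ((o y5).trans o5)
  obtain ⟨w, h7, h8, h9⟩ := exists_cl1 (f.comp φ) (two_le (f.comp φ) (fun g => (h6 (φ g)).trans (congrArg Int.cast (by
      unfold psi
      split_ifs with a1 a2 a3
      · exact (k _ (T.lt _)).1 (by rw [o, a1, orderOf_one])
      · obtain ⟨c, rfl⟩ := conj2 g a1 a2
        rw [cj]
      · obtain ⟨c, rfl⟩ := conj3 g a1 a3
        rw [cj]
      · obtain ⟨c, rfl | rfl⟩ := conj5 g a1 (all g a1 a2 a3)
        · rw [cj]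
        · rw [cj, map_pow, T.pow, k5.2])))
    ((k _ (T.lt _)).2.1 ((o t2).trans (orderOf_eq_prime t2_sq t2_ne)))
    ((k _ (T.lt _)).2.2.1 ((o t3).trans (orderOf_eq_prime (by decide +kernel) (by decide +kernel)))) k5.1
    (fun g => h3 _) h4) (fun g => h3 _) h4
  have h10 : A ≤ X ⊓ stabilizer Co1 (cl w) := fun a ha => ⟨hA.le ha, by
    have a1 := h1 (φ (e ⟨a, ha⟩)) (cl w)
    rw [smul_cl, show f (φ _) • w = w from h7 _] at a1
    simpa [φ] using a1.symm⟩
  rcases hA.eq_or_eq h10 inf_le_left with k1 | k1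
  · have a1 : (stabilizer Co1 (cl w)).relIndex X ≤ 2 ^ 24 := by
      refine (relIndex_le_of_le_right le_top index_ne_zero_of_finite).trans ?_
      rw [relIndex_top_right, index_stabilizer, ← card_L2]
      exact Set.ncard_le_card _
    have a2 := ((stabilizer Co1 (cl w)).subgroupOf X).card_mul_index
    rw [← inf_subgroupOf_left, Nat.card_congr (subgroupOfEquivOfLe inf_le_left).toEquiv, inf_subgroupOf_left, k1, hc,
      h] at a2
    rw [relIndex] at a1
    omega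
  · obtain ⟨a1, a2⟩ := (eq_stab (inf_eq_left.1 k1) h8).2 h
    obtain ⟨a3, a4⟩ := (eq_stab (fun t ht => (h1 ⟨t, ht⟩ _).symm.trans (congrArg cl (h3 _))) h4).2 h
    obtain ⟨g, a5⟩ := a3.trans (Or.inr (Or.inl rfl)) a1
    rw [← mk_smul] at a5
    have a6 : (QuotientGroup.mk g : Co1) ∈ stabilizer Co1 (cl v) := a4 ▸ hN (mem_normalizer_fintype fun t ht => by
      have a6 : t • cl v = cl v := (a4.le ht :)
      refine a2.ge (?_ : _ • cl w = cl w)
      rw [← a5, mul_smul, mul_smul, inv_smul_smul, a6])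
    exact h9 (a5.symm.trans a6)

end Cfsg.Agent.SM.SpB
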