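import Cfsg.Agent.SM.SpB.Mod
import Cfsg.Agent.SM.SpB.Fix
import Cfsg.Agent.SM.Sp.NoA13
import Cfsg.Agent.SM.Sp.Glue
import Cfsg.Agent.SM.SpC.St
import Cfsg.Agent.SM.Nrm
import Cfsg.Agent.SM.Mat.Tool
import Cfsg.Agent.H728.Syl3.Mono
import Cfsg.Agent.H548.Crit
import Cfsg.Agent.H621.Deg.Split
import Cfsg.Agent.H697.TwoDimOrd
import Cfsg.Agent.MTwelve.SylowEleven
import Cfsg.Agent.BMx.Base
import Cfsg.Agent.S2069
import Cfsg.Agent.S2070
import Cfsg.Agent.S2071
import Cfsg.Agent.S2121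

/-!
# SM (S3570), the socle `Co1` (helper83): `nilCo1 : Nil fCo1`
-/

set_option autoImplicit false

namespace Cfsg.Agent.SM.SpB

open Cfsg Subgroup MulAction Cfsg.Agent.MonsterU.Lam2 Cfsg.Agent.SM.Sp Cfsg.Agent.H940.Eng Cfsg.Agent.H940.Eng.D
  Cfsg.Agent.TH.Spor
open Cfsg.Spor (Co1)

section small

variable {G : Type} [Group G] [Finite G] {U V : Subgroup G}

theorem no30 (hle : V ≤ U) (h : Lc U V) (hc : Nat.card V = 30) (hi : 15 ∣ V.relIndex U) : False := by
  have h1 := Rd.lc_sub h hle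
  rw [subgroupOf_self] at h1
  have h2 := (Nat.card_congr (subgroupOfEquivOfLe hle).toEquiv).trans hc
  have := Fact.mk Nat.prime_three
  have := Fact.mk Nat.prime_five
  rw [relIndex] at hi
  rcases MTwelve.SylowEleven.card_thirty h2 with k | k
  · obtain ⟨P, hP, -⟩ := Rd.exists_syl (p := 3) (k := 1) (m := 10) (by norm_num) h2
    have := (Rd.core h1 Nat.prime_three one_pos (m := 10) (by norm_num) h2 P hP (Rd.normal_of_card k P)).2
    omega
  · obtain ⟨P, hP, -⟩ := Rd.exists_syl (p := 5) (k := 1) (m := 6) (by norm_num) h2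
    have := (Rd.core h1 Nat.prime_five one_pos (m := 6) (by norm_num) h2 P hP (Rd.normal_of_card k P)).2
    omega

theorem no60 (hle : V ≤ U) (h : Lc U V) (hc : Nat.card V = 60) (hi : 5 ∣ V.relIndex U) : ¬ Group.IsSolvable V := fun hs => by
  have h1 := Rd.lc_sub h hle
  rw [subgroupOf_self] at h1
  have e := subgroupOfEquivOfLe hle
  have h2 := (Nat.card_congr e.toEquiv).trans hc
  have := Fact.mk Nat.prime_five
  rw [relIndex] at hi
  obtain ⟨P, hP, -⟩ := Rd.exists_syl (p := 5) (k := 1) (m := 12) (by norm_num) h2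
  have := (Rd.core h1 Nat.prime_five one_pos (m := 12) (by norm_num) h2 P hP (H697.TwoDim.normal_of_solvable_sixty h2
    (Group.isSolvable_of_isSolvable_injective (f := e.toMonoidHom) e.injective) P)).2
  omega

theorem out_le (hs : IsSimpleGroup G) (hn : ¬ IsMulCommutative G)
    (h : Nat.card G = 251596800 ∨ Nat.card G = 3113510400 ∨ Nat.card G = 653837184000) : Nat.card (Out G) ≤ 2 := by
  rcases h with h | h | h
  · obtain ⟨g, hg, hr⟩ := NoS.name hs hn h (l := [(2, 12), (3, 3), (5, 2), (7, 1), (13, 1)]) (by decide +kernel)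
      (L := [.g2 4]) (by decide +kernel)
    obtain rfl := List.mem_singleton.1 hg
    obtain ⟨F, _, _, hF, ⟨e⟩⟩ := hr
    have : CharP F 2 := charP_of_card_eq_prime_pow (p := 2) (f := 2) hF
    exact ((H548.Crit.card_out_congr e).trans (S2121.result (F := F) 2 2 hF (by norm_num))).le
  · obtain ⟨g, hg, hr⟩ := NoS.name hs hn h (l := [(2, 9), (3, 5), (5, 2), (7, 1), (11, 1), (13, 1)]) (by decide +kernel)
      (L := [.alt 13]) (by decide +kernel)
    obtain rfl := List.mem_singleton.1 hg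
    exact H621.Deg.index_le_two (Or.inl ⟨13, by norm_num, hr⟩)
  · obtain ⟨g, hg, hr⟩ := NoS.name hs hn h (l := [(2, 10), (3, 6), (5, 3), (7, 2), (11, 1), (13, 1)]) (by decide +kernel)
      (L := [.alt 15]) (by decide +kernel)
    obtain rfl := List.mem_singleton.1 hg
    exact H621.Deg.index_le_two (Or.inl ⟨15, by norm_num, hr⟩)

end small

variable {H X Y : Subgroup Co1}

/-- `O₇(3)` and `S₆(3)` are not subgroups -/
theorem no_o73 (hs : IsSimpleGroup X) (hn : ¬ IsMulCommutative X) : Nat.card X ≠ 4585351680 := fun h => by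
  have := fin1
  have := Fact.mk Nat.prime_three
  obtain ⟨E, s, h1, h2, h3, h4, h5⟩ := par13 hs hn h
  obtain ⟨k, hk⟩ := IsPGroup.iff_card.1 h1
  have h6 := card_map_of_injective (K := E) X.subtype_injective
  have h7 : orderOf (s : Co1) = 13 := (orderOf_coe s).trans h4
  have h8 := cent_ab (E := E.map X.subtype) h7 (by rw [h6, hk]; exact Nat.Coprime.pow_left k (by norm_num))
    (by
      rintro _ ⟨a, ha, rfl⟩ _ ⟨b, hb, rfl⟩
      rw [← map_mul, h2 a ha b hb, map_mul])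
    (le_normalizer_map X.subtype ⟨s, mem_normalizer_fintype h5, rfl⟩)
  have h9 := card_dvd_of_le h8
  rw [h6, H792.M23.Co13.cent13 h7] at h9
  exact absurd (h3.trans h9) (by norm_num)

/-- **the local case** -/
theorem not_loc {n : ℤ} (hn : n = 2 ∨ n = 3) {x : L2} (hx : IsType n x) (hd : Ex78.Pd (stabilizer Co1 x) Y)
    (hm : stabilizer Co1 x ⊓ Y ⋖ stabilizer Co1 x) : ¬ Loc13 Y := by
  rintro ⟨K, s, h0, h1, h2, h3, h4⟩
  have := fin1
  have : Fact (Nat.Prime 13) := ⟨by norm_num⟩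
  have := Fact.mk Nat.prime_three
  obtain ⟨x0, m1, m2, m3⟩ := model hn
  have idx : ∀ {A C : Subgroup Co1} {a c p : ℕ}, A ≤ C → Nat.card A = a → Nat.card C = c → ¬ a * p ∣ c →
      ¬ p ∣ A.relIndex C := fun {A C a c p} e1 e2 e3 e4 e5 => e4 (by
    rw [← e3, ← (A.subgroupOf C).card_mul_index, Nat.card_congr (subgroupOfEquivOfLe e1).toEquiv, e2]
    exact Nat.mul_dvd_mul_left a e5)
  obtain ⟨g, -, h5⟩ := H728.Syl3.exists_conj_le (p := 13) (zpowers s) ⊤
    (idx le_top ((Nat.card_zpowers s).trans h2) (card_top.trans card1) (by norm_num)) (zpowers r0) le_top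
    (IsPGroup.of_card (n := 1) (by rw [Nat.card_zpowers, orderOf_r0, pow_one]))
  obtain ⟨j, h6⟩ := h5 r0 (mem_zpowers r0)
  have h7 : K.map (MulAut.conj g).toMonoidHom ≤ centralizer {r0} := by
    rintro _ ⟨k, hk, rfl⟩
    have a1 : k * s ^ j = s ^ j * k := (Commute.zpow_right (mem_centralizer_singleton_iff.1 (h3 hk)) j).eq
    rw [show s ^ j = _ from h6] at a1
    refine mem_centralizer_singleton_iff.2 ?_
    calc g * k * g⁻¹ * r0 = g * (k * (g⁻¹ * r0 * g)) * g⁻¹ := by group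
      _ = r0 * (g * k * g⁻¹) := by rw [a1]; group
  have fin : ∀ (c : Co1) (P : Subgroup Co1), (∀ y ∈ K.map (MulAut.conj g).toMonoidHom, c⁻¹ * y * c ∈ P) →
      (∀ K' ≤ P, K' ≠ ⊥ → Kill x0 K') → False := fun c P a1 a2 => by
    have a3 : Kill x0 (K.map (MulAut.conj (c⁻¹ * g)).toMonoidHom) := a2 _ (by
      rintro _ ⟨k, hk, rfl⟩
      convert a1 _ ⟨k, hk, rfl⟩ using 1
      show c⁻¹ * g * k * (c⁻¹ * g)⁻¹ = c⁻¹ * (g * k * g⁻¹) * c
      group) (by rwa [Ne, map_eq_bot_iff_of_injective _ (MulAut.conj _).injective])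
    have a4 := a3.conj (K' := K) (c⁻¹ * g)⁻¹ fun k => ⟨fun h => ⟨_, h, by
      show c⁻¹ * g * _ * (c⁻¹ * g)⁻¹ = k
      group⟩, by
      rintro ⟨k, hk, rfl⟩
      show _ * (c⁻¹ * g * k * (c⁻¹ * g)⁻¹) * _ ∈ K
      rwa [show (c⁻¹ * g)⁻¹ * (c⁻¹ * g * k * (c⁻¹ * g)⁻¹) * (c⁻¹ * g)⁻¹⁻¹ = k by group]⟩
    obtain ⟨u, hu⟩ := (m1.smul1 (c⁻¹ * g)⁻¹).trans (hn.imp_right Or.inl) hx
    obtain ⟨a, ha, y, hy, e⟩ := hd (QuotientGroup.mk u)
    rw [← MonsterU.Lam2.mk_smul, e, mul_smul, ← eq_inv_smul_iff, show a⁻¹ • x = x from inv_mem ha] at hu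
    exact (hu ▸ a4.conj y fun k => (mem_normalizer_iff.1 (h1 hy) k).symm).false h1 hm
  have hc := H792.M23.Co13.cent13 orderOf_r0
  rcases h4 with h4 | h4
  · obtain ⟨c, -, h8⟩ := H728.Syl3.exists_conj_le (p := 2) V _ (idx V_le card_V hc (by norm_num)) _ h7 (h4.map _)
    exact fin c V h8 m2
  · have a1 := (Nat.card_zpowers _).trans orderOf_w
    obtain ⟨c, -, h8⟩ := H728.Syl3.exists_conj_le (p := 3) _ _ (idx W_le a1 hc (by norm_num)) _ h7 (h4.map _)
    refine fin c _ h8 fun K' a2 a3 => ?_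
    have a4 := card_dvd_of_le a2
    rw [a1] at a4
    rwa [eq_of_le_of_card_ge a2 (a1.trans (((Nat.dvd_prime Nat.prime_three).1 a4).resolve_left
      fun a5 => a3 (card_eq_one.1 a5)).symm).le]

/-- the test for an almost simple factor -/
def Num (i : ℕ) (l : List (ℕ × ℕ)) (ld : LD) (o : List ℕ) : Prop :=
  ∀ s ∈ o_co1, ∀ t ∈ divsT [(2, 4), (3, 2)], i ∣ s * t → ∀ ν ∈ divsT [(2, 4), (3, 2), (13, 1)], 13 ∣ ν → ν ∣ s →
    s / ν % 13 = 1 → ν * t ∣ 1872 →
      s ∈ [42456960, 1056706560, 43589145600, 4585351680, 448345497600, 64561751654400, 4157776806543360000] ∨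
        s = 251596800 ∨ ((s = 3113510400 ∨ s = 653837184000) ∧ 2 < t) ∨
          (11 ∣ s * t / i ∧ feas l ld o (s * t / i) = false)

theorem num2 : Num 98280 l_co2 ⟨11, 11, [(2, 1), (5, 1), (11, 1)]⟩ o_co2 := by
  unfold Num
  decide +kernel

theorem num3 : Num 8386560 l_co3 ⟨11, 22, [(2, 1), (5, 1), (11, 1)]⟩ o_co3 := by
  unfold Num
  decide +kernel

/-- the order of the second factor -/
theorem card_Y (f : Fa X Y) (hl : ¬ Loc13 Y) {i n : ℕ} {l : List (ℕ × ℕ)} {C : ℕ} {fN : List (ℕ × ℕ)} {o : List ℕ}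
    (hN : Num i l ⟨11, C, fN⟩ o) (hi : X.index = i) (h65 : 65 ∣ i) (hv : OrdDiv.valid l n = true) (hn : Nat.card X = n)
    (ho : Ords.{0} n o) (hL : Loc X ⟨11, C, fN⟩) :
    Nat.card ↥(X ⊓ Y) * i = 251596800 ∨ Nat.card ↥(X ⊓ Y) * i = 251596800 * 2 := by
  have := fin1
  have h1 := f.pd.symm.card_left
  rw [inf_comm, hi] at h1
  have h2 : 65 ∣ Nat.card Y := h65.trans (Dvd.intro_left _ h1)
  obtain ⟨L, h3, h4, h5, h6, ν, h7, h8, h9, h10⟩ :=
    (str (Dvd.dvd.trans (by norm_num) h2) (Dvd.dvd.trans (by norm_num) h2)).resolve_left hl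
  have h5' : ¬ IsMulCommutative L := fun h => h5 h.is_comm.comm
  have h11 := L.card_mul_index
  have h12 : L.index ∣ Nat.card (Out L) := by
    rw [← h11, ← (Inn L).card_mul_index] at h6
    exact Nat.dvd_of_mul_dvd_mul_left Nat.card_pos (h6.trans (Nat.mul_dvd_mul_right (card_range_dvd _) _))
  have h13 : L.index ∣ 144 := Nat.dvd_of_mul_dvd_mul_left (by norm_num : 0 < 13) ((Nat.mul_dvd_mul_right h7 _).trans h10)
  have h14 := card_map_of_injective (K := L) Y.subtype_injective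
  have e := L.equivMapOfInjective Y.subtype Y.subtype_injective
  have h15 : IsSimpleGroup (L.map Y.subtype) := e.symm.isSimpleGroup
  have h16 : ¬ IsMulCommutative (L.map Y.subtype) := fun h => h5 fun a b => e.injective (by
    rw [map_mul, map_mul, h.is_comm.comm])
  have h17 : Nat.card (Out L) ≤ 2 → L.index ≤ 2 := fun h => (Nat.le_of_dvd Nat.card_pos h12).trans h
  rcases hN _ (ords_co1 BMx.engBase L h4 h5 ((L.card_subgroup_dvd_card.trans Y.card_subgroup_dvd_card).trans card1.dvd))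
    _ (mem_divsT (by decide) h13) (h11 ▸ Dvd.intro_left _ h1) _ (mem_divsT (by decide) (Dvd.dvd.trans (Dvd.intro _ rfl) h10))
    h7 h8 h9 h10 with k | k | ⟨k, k'⟩ | ⟨k, k'⟩
  · have a1 := noS_co1 ⟨MulEquiv.refl _⟩ _ h15 h16
    have a2 := noSuz_co1 ⟨MulEquiv.refl _⟩ (L.map Y.subtype)
    have a3 := no_o73 h15 h16
    have a4 : Nat.card (L.map Y.subtype) ≠ 4157776806543360000 := fun a4 =>
      f.neY (top_le_iff.1 ((eq_top_of_card_eq _ (a4.trans card1.symm)).ge.trans (map_subtype_le L)))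
    rw [h14] at a1 a2 a3 a4
    simp only [List.mem_cons, List.not_mem_nil, or_false] at k
    omega
  · have a1 := h17 (out_le h4 h5' (Or.inl k))
    have a2 : L.index ≠ 0 := index_ne_zero_of_finite
    rw [h1, ← h11, k]
    omega
  · exact absurd (h17 (out_le h4 h5' (Or.inr k))) (not_le.2 k')
  · have a1 : Nat.card L * L.index / i = Nat.card ((X ⊓ Y).subgroupOf X) := by
      rw [h11, ← h1, Nat.mul_div_cancel _ (hi ▸ Nat.pos_of_ne_zero index_ne_zero_of_finite),
        Nat.card_congr (subgroupOfEquivOfLe inf_le_left).toEquiv]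
    rw [a1] at k k'
    rw [feas_of hv hn ho hL k] at k'
    cases k'

theorem eq_of_out {Γ : Type} [Group Γ] [Finite Γ] {A T : Subgroup Γ} (h : AS A T) (h1 : Nat.card (Out T) = 1) : A = T :=
  le_antisymm (relIndex_eq_one.1 (Nat.dvd_one.1 (h1 ▸ h.relIndex_dvd))) h.le

theorem main (f : Fac ⊤ ⊤ H X Y) (a : Fa X Y) : False := by
  have := fin1
  have h1 := a.pd.card_left
  have h2 : (X ⊓ Y).relIndex X = Y.index := by rw [inf_relIndex_left, a.pd.relIndex]
  have h3 := X.card_mul_index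
  rw [card1] at h3
  rcases lst_co1' ⟨MulEquiv.refl _⟩ a with h | h | h
  · obtain ⟨e⟩ := iso2 a.simple a.nab h
    obtain rfl := eq_of_out f.asH ((H548.Crit.card_out_congr e).trans S2070.result)
    obtain ⟨T, hm, -⟩ := in_co2 (K := H) ⟨e⟩
    obtain ⟨x, hx, rfl⟩ := fix2 a.simple a.nab h
    rw [h] at h1 h3
    rcases card_Y a (not_loc (Or.inl rfl) hx a.pd f.pr) num2 (by omega) (by norm_num) v_co2 h (ords_co2 BMx.engBase)
      (loc_of hm (by decide +kernel)) with k | k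
    · rw [show Nat.card _ = 2560 by omega] at h1
      exact SpC.st_fa a (a := 9) (by omega) (by omega)
    · rw [show Nat.card _ = 5120 by omega] at h1
      exact SpC.st_fa a (a := 10) (by omega) (by omega)
  · obtain ⟨e⟩ := iso3 a.simple a.nab h
    obtain rfl := eq_of_out f.asH ((H548.Crit.card_out_congr e).trans S2071.result)
    obtain ⟨T, hm, -⟩ := in_co3 (K := H) ⟨e⟩
    obtain ⟨x, hx, e'⟩ := fix3 a.simple a.nab h
    rw [h] at h1 h3
    rcases card_Y a (not_loc (Or.inr rfl) hx (e' ▸ a.pd) (e' ▸ f.pr)) num3 (by omega) (by norm_num) v_co3 h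
      (ords_co3 BMx.engBase) (loc_of hm (by decide +kernel)) with k | k
    · have k1 : Nat.card ↥(H ⊓ Y) = 30 := by omega
      rw [k1] at h1
      exact no30 inf_le_left a.lcX k1 (by omega)
    · have k1 : Nat.card ↥(H ⊓ Y) = 60 := by omega
      rw [k1] at h1
      exact sixty a.simple a.nab h (fun g hg => f.mem_H (mem_top g) hg) f.pr k1 (no60 inf_le_left a.lcX k1 (by omega))
  · simp only [List.mem_cons, Prod.mk.injEq, List.not_mem_nil, or_false] at h
    rcases h with ⟨h, k⟩ | ⟨h, k⟩ | ⟨h, -⟩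
    · exact SpC.st_fa a (a := 9) (by omega) (by omega)
    · exact no30 inf_le_left a.lcX (by rw [h, k] at h1; omega) (by omega)
    · exact no_o73 a.simple a.nab h

/-- **no row for `Co1`** -/
theorem nilCo1 : Nil fCo1 := by
  rintro Ω _ _ X H T M S u ⟨e⟩
  obtain ⟨a⟩ : Nonempty Ω := Fintype.card_pos_iff.1 (lt_of_lt_of_le two_pos u.two)
  obtain rfl := eq_of_out u.socM.as ((H548.Crit.card_out_congr e).trans S2069.result)
  have f := (u.fac a).top.map (φ := e.toMonoidHom) e.injective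
  rw [subgroupOf_self, map_top_of_surjective _ e.surjective] at f
  exact main f (Rd.fa_map e (up_fa u a))

end Cfsg.Agent.SM.SpB
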