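import Cfsg.Agent.CoOneType.CoEval

/-!
# SM (S3570), the socle `Co1` (helper83): explicit elements of `Co0`

`I`, `J`, `W` generate `SL(2, 3)`, centralized by `R` of order 13; `T2`, `T3`, `B` fix a short vector.
-/

set_option autoImplicit false

namespace Cfsg.Agent.SM.SpB.Mat

open Cfsg Cfsg.Agent.SporadicStructure.Co0Matrix Cfsg.Agent.CoOneType.CoEval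

/-- rows -/
def rI : List (List ℤ) :=
  [[0, 2, 2, 0, 0, -2, 0, 0, 4, 0, 0, 0, -4, -2, 0, 0, -2, -2, 0, 2, 0, 2, 0, 0],
    [-2, 0, 0, -2, 2, 0, 2, -2, -2, 2, -2, -2, -2, 0, 2, -2, 0, 0, 2, 0, -2, 0, -2, 2],
    [-2, 0, 0, -2, 2, 0, 2, -2, 2, -2, 2, 2, 2, 0, 2, 2, 0, 0, -2, 0, 2, 0, -2, 2],
    [0, 2, 2, 0, 0, -2, 0, 4, 0, 0, 0, 0, 0, 2, 4, 0, 2, 2, 0, 2, 0, -2, 0, 0],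
    [0, -2, -2, 0, 0, 2, 0, 0, 4, 0, 0, 0, -4, 2, 0, 0, 2, 2, 0, -2, 0, -2, 0, 0],
    [2, 0, 0, 2, -2, 0, -2, -2, -2, -2, 2, -2, -2, 0, 2, -2, 0, 0, -2, 0, 2, 0, -2, 2],
    [0, -2, -2, 0, 0, 2, 0, 4, 0, 0, 0, 0, 0, -2, 4, 0, -2, -2, 0, -2, 0, 2, 0, 0],
    [0, 2, 2, -4, 0, 2, -4, 0, 0, 0, 0, 0, 0, 2, 0, 0, 2, -2, 0, -2, 0, 2, 0, 0],
    [-4, 2, -2, 0, -4, 2, 0, 0, 0, 0, 0, 0, 0, -2, 0, 0, 2, 2, 0, 2, 0, 2, 0, 0],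
    [0, -2, 2, 0, 0, 2, 0, 0, 0, 0, 0, 4, 0, -2, 0, -4, 2, -2, 0, 2, 0, -2, 0, 0],
    [0, 2, -2, 0, 0, -2, 0, 0, 0, 0, 0, 0, 0, -2, 0, 0, 2, -2, 0, -2, 0, -2, 4, 4],
    [0, 2, -2, 0, 0, 2, 0, 0, 0, -4, 0, 0, 0, 2, 0, 0, -2, -2, 4, 2, 0, -2, 0, 0],
    [4, 2, -2, 0, 4, 2, 0, 0, 0, 0, 0, 0, 0, -2, 0, 0, 2, 2, 0, 2, 0, 2, 0, 0],
    [2, 0, 0, -2, -2, 0, 2, -2, 2, 2, 2, -2, 2, 0, 2, -2, 0, 0, 2, 0, 2, 0, 2, -2],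
    [0, -2, -2, -4, 0, -2, -4, 0, 0, 0, 0, 0, 0, -2, 0, 0, -2, 2, 0, 2, 0, -2, 0, 0],
    [0, 2, -2, 0, 0, 2, 0, 0, 0, 4, 0, 0, 0, 2, 0, 0, -2, -2, -4, 2, 0, -2, 0, 0],
    [2, 0, 0, -2, -2, 0, 2, -2, -2, -2, -2, 2, -2, 0, 2, 2, 0, 0, -2, 0, -2, 0, 2, -2],
    [2, 0, 0, -2, -2, 0, 2, 2, -2, 2, 2, 2, -2, 0, -2, 2, 0, 0, 2, 0, 2, 0, -2, 2],
    [0, -2, 2, 0, 0, 2, 0, 0, 0, 0, 0, -4, 0, -2, 0, 4, 2, -2, 0, 2, 0, -2, 0, 0],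
    [-2, 0, 0, -2, 2, 0, 2, 2, -2, -2, 2, -2, -2, 0, -2, -2, 0, 0, -2, 0, 2, 0, 2, -2],
    [0, 2, -2, 0, 0, -2, 0, 0, 0, 0, 0, 0, 0, -2, 0, 0, 2, -2, 0, -2, 0, -2, -4, -4],
    [-2, 0, 0, 2, 2, 0, -2, -2, -2, 2, 2, 2, -2, 0, 2, 2, 0, 0, 2, 0, 2, 0, 2, -2],
    [0, 2, 2, 0, 0, 2, 0, 0, 0, 0, -4, 0, 0, -2, 0, 0, -2, 2, 0, -2, 4, -2, 0, 0],
    [0, -2, -2, 0, 0, -2, 0, 0, 0, 0, -4, 0, 0, 2, 0, 0, 2, -2, 0, 2, 4, 2, 0, 0]]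

/-- columns -/
def cI : List (List ℤ) :=
  [[0, -2, -2, 0, 0, 2, 0, 0, -4, 0, 0, 0, 4, 2, 0, 0, 2, 2, 0, -2, 0, -2, 0, 0],
    [2, 0, 0, 2, -2, 0, -2, 2, 2, -2, 2, 2, 2, 0, -2, 2, 0, 0, -2, 0, 2, 0, 2, -2],
    [2, 0, 0, 2, -2, 0, -2, 2, -2, 2, -2, -2, -2, 0, -2, -2, 0, 0, 2, 0, -2, 0, 2, -2],
    [0, -2, -2, 0, 0, 2, 0, -4, 0, 0, 0, 0, 0, -2, -4, 0, -2, -2, 0, -2, 0, 2, 0, 0],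
    [0, 2, 2, 0, 0, -2, 0, 0, -4, 0, 0, 0, 4, -2, 0, 0, -2, -2, 0, 2, 0, 2, 0, 0],
    [-2, 0, 0, -2, 2, 0, 2, 2, 2, 2, -2, 2, 2, 0, -2, 2, 0, 0, 2, 0, -2, 0, 2, -2],
    [0, 2, 2, 0, 0, -2, 0, -4, 0, 0, 0, 0, 0, 2, -4, 0, 2, 2, 0, 2, 0, -2, 0, 0],
    [0, -2, -2, 4, 0, -2, 4, 0, 0, 0, 0, 0, 0, -2, 0, 0, -2, 2, 0, 2, 0, -2, 0, 0],
    [4, -2, 2, 0, 4, -2, 0, 0, 0, 0, 0, 0, 0, 2, 0, 0, -2, -2, 0, -2, 0, -2, 0, 0],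
    [0, 2, -2, 0, 0, -2, 0, 0, 0, 0, 0, -4, 0, 2, 0, 4, -2, 2, 0, -2, 0, 2, 0, 0],
    [0, -2, 2, 0, 0, 2, 0, 0, 0, 0, 0, 0, 0, 2, 0, 0, -2, 2, 0, 2, 0, 2, -4, -4],
    [0, -2, 2, 0, 0, -2, 0, 0, 0, 4, 0, 0, 0, -2, 0, 0, 2, 2, -4, -2, 0, 2, 0, 0],
    [-4, -2, 2, 0, -4, -2, 0, 0, 0, 0, 0, 0, 0, 2, 0, 0, -2, -2, 0, -2, 0, -2, 0, 0],
    [-2, 0, 0, 2, 2, 0, -2, 2, -2, -2, -2, 2, -2, 0, -2, 2, 0, 0, -2, 0, -2, 0, -2, 2],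
    [0, 2, 2, 4, 0, 2, 4, 0, 0, 0, 0, 0, 0, 2, 0, 0, 2, -2, 0, -2, 0, 2, 0, 0],
    [0, -2, 2, 0, 0, -2, 0, 0, 0, -4, 0, 0, 0, -2, 0, 0, 2, 2, 4, -2, 0, 2, 0, 0],
    [-2, 0, 0, 2, 2, 0, -2, 2, 2, 2, 2, -2, 2, 0, -2, -2, 0, 0, 2, 0, 2, 0, -2, 2],
    [-2, 0, 0, 2, 2, 0, -2, -2, 2, -2, -2, -2, 2, 0, 2, -2, 0, 0, -2, 0, -2, 0, 2, -2],
    [0, 2, -2, 0, 0, -2, 0, 0, 0, 0, 0, 4, 0, 2, 0, -4, -2, 2, 0, -2, 0, 2, 0, 0],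
    [2, 0, 0, 2, -2, 0, -2, -2, 2, 2, -2, 2, 2, 0, 2, 2, 0, 0, 2, 0, -2, 0, -2, 2],
    [0, -2, 2, 0, 0, 2, 0, 0, 0, 0, 0, 0, 0, 2, 0, 0, -2, 2, 0, 2, 0, 2, 4, 4],
    [2, 0, 0, -2, -2, 0, 2, 2, 2, -2, -2, -2, 2, 0, -2, -2, 0, 0, -2, 0, -2, 0, -2, 2],
    [0, -2, -2, 0, 0, -2, 0, 0, 0, 0, 4, 0, 0, 2, 0, 0, 2, -2, 0, 2, -4, 2, 0, 0],
    [0, 2, 2, 0, 0, 2, 0, 0, 0, 0, 4, 0, 0, -2, 0, 0, -2, 2, 0, -2, -4, -2, 0, 0]]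

theorem okI : Ok rI cI := Ok.of_bool (by decide +kernel)

/-- rows -/
def rJ : List (List ℤ) :=
  [[0, 2, -2, -2, 0, -2, -2, -2, 0, -2, 0, 2, 0, -2, -2, -2, 2, -2, 2, -2, 0, -2, 0, 0],
    [-2, 0, 0, 0, 2, 0, 0, 0, 2, 0, 2, 0, 2, 0, 0, 0, 0, 0, 0, 4, 2, -4, -2, 2],
    [2, 0, 0, 0, -2, 4, 0, 0, 2, 0, 2, 0, 2, 0, 0, 0, 0, -4, 0, 0, 2, 0, 2, -2],
    [2, 0, 0, 0, 2, 0, 0, 0, 2, -4, 2, 0, -2, 0, 0, 0, 0, 0, -4, 0, -2, 0, -2, -2],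
    [0, -2, 2, -2, 0, 2, -2, -2, 0, -2, 0, 2, 0, 2, -2, -2, -2, 2, 2, 2, 0, 2, 0, 0],
    [2, 0, -4, 0, -2, 0, 0, 0, 2, 0, -2, 0, 2, 0, 0, 0, -4, 0, 0, 0, -2, 0, -2, 2],
    [2, 0, 0, 0, 2, 0, 0, 0, 2, 4, 2, 0, -2, 0, 0, 0, 0, 0, 4, 0, -2, 0, -2, -2],
    [2, 0, 0, 0, 2, 0, 0, 0, -2, 0, -2, -4, 2, 0, 0, -4, 0, 0, 0, 0, 2, 0, -2, -2],
    [0, -2, -2, -2, 0, -2, -2, 2, 0, 2, 0, 2, 0, 2, 2, -2, 2, -2, -2, 2, 0, 2, 0, 0],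
    [2, 0, 0, 4, 2, 0, -4, 0, -2, 0, 2, 0, 2, 0, 0, 0, 0, 0, 0, 0, -2, 0, 2, 2],
    [0, -2, -2, -2, 0, 2, -2, 2, 0, -2, 0, -2, 0, 2, 2, 2, 2, 2, 2, -2, 0, -2, 0, 0],
    [-2, 0, 0, 0, -2, 0, 0, 4, -2, 0, 2, 0, 2, 0, -4, 0, 0, 0, 0, 0, -2, 0, -2, -2],
    [0, -2, -2, 2, 0, -2, 2, -2, 0, -2, 0, -2, 0, 2, -2, 2, 2, -2, 2, 2, 0, 2, 0, 0],
    [2, 0, 0, 0, -2, 0, 0, 0, -2, 0, -2, 0, -2, 0, 0, 0, 0, 0, 0, 4, -2, -4, 2, -2],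
    [2, 0, 0, 0, 2, 0, 0, 0, -2, 0, -2, 4, 2, 0, 0, 4, 0, 0, 0, 0, 2, 0, -2, -2],
    [2, 0, 0, 0, 2, 0, 0, 4, 2, 0, -2, 0, -2, 0, -4, 0, 0, 0, 0, 0, 2, 0, 2, 2],
    [-2, 0, 0, 0, 2, 4, 0, 0, -2, 0, -2, 0, -2, 0, 0, 0, 0, -4, 0, 0, -2, 0, -2, 2],
    [2, 0, 4, 0, -2, 0, 0, 0, 2, 0, -2, 0, 2, 0, 0, 0, 4, 0, 0, 0, -2, 0, -2, 2],
    [-2, 0, 0, 4, -2, 0, -4, 0, 2, 0, -2, 0, -2, 0, 0, 0, 0, 0, 0, 0, 2, 0, -2, -2],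
    [2, -4, 0, 0, -2, 0, 0, 0, -2, 0, 2, 0, -2, -4, 0, 0, 0, 0, 0, 0, 2, 0, -2, 2],
    [0, -2, -2, 2, 0, 2, 2, -2, 0, 2, 0, 2, 0, 2, -2, -2, 2, 2, -2, -2, 0, -2, 0, 0],
    [2, 4, 0, 0, -2, 0, 0, 0, -2, 0, 2, 0, -2, 4, 0, 0, 0, 0, 0, 0, 2, 0, -2, 2],
    [0, 2, -2, 2, 0, 2, 2, 2, 0, -2, 0, 2, 0, -2, 2, -2, 2, 2, 2, 2, 0, 2, 0, 0],
    [0, -2, 2, 2, 0, -2, 2, 2, 0, -2, 0, 2, 0, 2, 2, -2, -2, -2, 2, -2, 0, -2, 0, 0]]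

/-- columns -/
def cJ : List (List ℤ) :=
  [[0, -2, 2, 2, 0, 2, 2, 2, 0, 2, 0, -2, 0, 2, 2, 2, -2, 2, -2, 2, 0, 2, 0, 0],
    [2, 0, 0, 0, -2, 0, 0, 0, -2, 0, -2, 0, -2, 0, 0, 0, 0, 0, 0, -4, -2, 4, 2, -2],
    [-2, 0, 0, 0, 2, -4, 0, 0, -2, 0, -2, 0, -2, 0, 0, 0, 0, 4, 0, 0, -2, 0, -2, 2],
    [-2, 0, 0, 0, -2, 0, 0, 0, -2, 4, -2, 0, 2, 0, 0, 0, 0, 0, 4, 0, 2, 0, 2, 2],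
    [0, 2, -2, 2, 0, -2, 2, 2, 0, 2, 0, -2, 0, -2, 2, 2, 2, -2, -2, -2, 0, -2, 0, 0],
    [-2, 0, 4, 0, 2, 0, 0, 0, -2, 0, 2, 0, -2, 0, 0, 0, 4, 0, 0, 0, 2, 0, 2, -2],
    [-2, 0, 0, 0, -2, 0, 0, 0, -2, -4, -2, 0, 2, 0, 0, 0, 0, 0, -4, 0, 2, 0, 2, 2],
    [-2, 0, 0, 0, -2, 0, 0, 0, 2, 0, 2, 4, -2, 0, 0, 4, 0, 0, 0, 0, -2, 0, 2, 2],
    [0, 2, 2, 2, 0, 2, 2, -2, 0, -2, 0, -2, 0, -2, -2, 2, -2, 2, 2, -2, 0, -2, 0, 0],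
    [-2, 0, 0, -4, -2, 0, 4, 0, 2, 0, -2, 0, -2, 0, 0, 0, 0, 0, 0, 0, 2, 0, -2, -2],
    [0, 2, 2, 2, 0, -2, 2, -2, 0, 2, 0, 2, 0, -2, -2, -2, -2, -2, -2, 2, 0, 2, 0, 0],
    [2, 0, 0, 0, 2, 0, 0, -4, 2, 0, -2, 0, -2, 0, 4, 0, 0, 0, 0, 0, 2, 0, 2, 2],
    [0, 2, 2, -2, 0, 2, -2, 2, 0, 2, 0, 2, 0, -2, 2, -2, -2, 2, -2, -2, 0, -2, 0, 0],
    [-2, 0, 0, 0, 2, 0, 0, 0, 2, 0, 2, 0, 2, 0, 0, 0, 0, 0, 0, -4, 2, 4, -2, 2],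
    [-2, 0, 0, 0, -2, 0, 0, 0, 2, 0, 2, -4, -2, 0, 0, -4, 0, 0, 0, 0, -2, 0, 2, 2],
    [-2, 0, 0, 0, -2, 0, 0, -4, -2, 0, 2, 0, 2, 0, 4, 0, 0, 0, 0, 0, -2, 0, -2, -2],
    [2, 0, 0, 0, -2, -4, 0, 0, 2, 0, 2, 0, 2, 0, 0, 0, 0, 4, 0, 0, 2, 0, 2, -2],
    [-2, 0, -4, 0, 2, 0, 0, 0, -2, 0, 2, 0, -2, 0, 0, 0, -4, 0, 0, 0, 2, 0, 2, -2],
    [2, 0, 0, -4, 2, 0, 4, 0, -2, 0, 2, 0, 2, 0, 0, 0, 0, 0, 0, 0, -2, 0, 2, 2],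
    [-2, 4, 0, 0, 2, 0, 0, 0, 2, 0, -2, 0, 2, 4, 0, 0, 0, 0, 0, 0, -2, 0, 2, -2],
    [0, 2, 2, -2, 0, -2, -2, 2, 0, -2, 0, -2, 0, -2, 2, 2, -2, -2, 2, 2, 0, 2, 0, 0],
    [-2, -4, 0, 0, 2, 0, 0, 0, 2, 0, -2, 0, 2, -4, 0, 0, 0, 0, 0, 0, -2, 0, 2, -2],
    [0, -2, 2, -2, 0, -2, -2, -2, 0, 2, 0, -2, 0, 2, -2, 2, -2, -2, -2, -2, 0, -2, 0, 0],
    [0, 2, -2, -2, 0, 2, -2, -2, 0, 2, 0, -2, 0, -2, -2, 2, 2, 2, -2, 2, 0, 2, 0, 0]]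

theorem okJ : Ok rJ cJ := Ok.of_bool (by decide +kernel)

/-- rows -/
def rW : List (List ℤ) :=
  [[-4, 2, 0, -2, 0, -2, -2, 0, 2, 0, 2, 2, -2, -2, 0, -2, 0, -2, 0, 0, 2, 0, 0, 0],
    [-2, -4, 2, 0, 2, 0, 0, -2, 0, 2, 0, 0, 0, 0, 2, 0, -2, 0, 2, 2, 0, -2, -2, 2],
    [0, -2, -4, -2, 0, 2, 2, 0, 2, 0, 2, 2, 2, 2, 0, 2, 0, -2, 0, 0, 2, 0, 0, 0],
    [2, 0, 2, -4, 2, 0, 0, 2, 0, -2, 0, 0, 0, 0, 2, 0, 2, 0, -2, 2, 0, -2, -2, -2],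
    [0, -2, 0, -2, -4, 2, -2, 0, 2, 0, -2, 2, -2, 2, 0, -2, 0, 2, 0, 0, -2, 0, 0, 0],
    [2, 0, -2, 0, -2, -4, 0, -2, 0, -2, 0, 0, 0, 0, 2, 0, -2, 0, -2, -2, 0, -2, -2, 2],
    [2, 0, -2, 0, 2, 0, -4, 2, 0, 2, 0, 0, 0, 0, 2, 0, -2, 0, 2, -2, 0, 2, -2, -2],
    [0, 2, 0, -2, 0, 2, -2, -4, -2, 0, -2, -2, 2, 2, 0, -2, 0, -2, 0, 0, 2, 0, 0, 0],
    [-2, 0, -2, 0, -2, 0, 0, 2, -4, 2, 0, 0, 0, 0, 2, 0, 2, 0, -2, 2, 0, 2, -2, 2],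
    [0, -2, 0, 2, 0, 2, -2, 0, -2, -4, 2, 2, 2, -2, 0, -2, 0, -2, 0, 0, -2, 0, 0, 0],
    [-2, 0, -2, 0, 2, 0, 0, 2, 0, -2, -4, 0, 0, 0, 2, 0, 2, 0, 2, -2, 0, -2, 2, 2],
    [-2, 0, -2, 0, -2, 0, 0, 2, 0, -2, 0, -4, 0, 0, -2, 0, -2, 0, 2, 2, 0, -2, -2, -2],
    [2, 0, -2, 0, 2, 0, 0, -2, 0, -2, 0, 0, -4, 0, -2, 0, 2, 0, 2, 2, 0, 2, -2, 2],
    [2, 0, -2, 0, -2, 0, 0, -2, 0, 2, 0, 0, 0, -4, 2, 0, 2, 0, 2, 2, 0, -2, 2, -2],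
    [0, -2, 0, -2, 0, -2, -2, 0, -2, 0, -2, 2, 2, -2, -4, 2, 0, 2, 0, 0, 2, 0, 0, 0],
    [2, 0, -2, 0, 2, 0, 0, 2, 0, 2, 0, 0, 0, 0, -2, -4, -2, 0, -2, 2, 0, -2, 2, 2],
    [0, 2, 0, -2, 0, 2, 2, 0, -2, 0, -2, 2, -2, -2, 0, 2, -4, -2, 0, 0, -2, 0, 0, 0],
    [2, 0, 2, 0, -2, 0, 0, 2, 0, 2, 0, 0, 0, 0, -2, 0, 2, -4, 2, -2, 0, -2, -2, 2],
    [0, -2, 0, 2, 0, 2, -2, 0, 2, 0, -2, -2, -2, -2, 0, 2, 0, -2, -4, 0, 2, 0, 0, 0],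
    [0, -2, 0, -2, 0, 2, 2, 0, -2, 0, 2, -2, -2, -2, 0, -2, 0, 2, 0, -4, 2, 0, 0, 0],
    [-2, 0, -2, 0, 2, 0, 0, -2, 0, 2, 0, 0, 0, 0, -2, 0, 2, 0, -2, -2, -4, -2, -2, -2],
    [0, 2, 0, 2, 0, 2, -2, 0, -2, 0, 2, 2, -2, 2, 0, 2, 0, 2, 0, 0, 2, -4, 0, 0],
    [0, 2, 0, 2, 0, 2, 2, 0, 2, 0, -2, 2, 2, -2, 0, -2, 0, 2, 0, 0, 2, 0, -4, 0],
    [0, -2, 0, 2, 0, -2, 2, 0, -2, 0, -2, 2, -2, 2, 0, -2, 0, -2, 0, 0, 2, 0, 0, -4]]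

/-- columns -/
def cW : List (List ℤ) :=
  [[-4, -2, 0, 2, 0, 2, 2, 0, -2, 0, -2, -2, 2, 2, 0, 2, 0, 2, 0, 0, -2, 0, 0, 0],
    [2, -4, -2, 0, -2, 0, 0, 2, 0, -2, 0, 0, 0, 0, -2, 0, 2, 0, -2, -2, 0, 2, 2, -2],
    [0, 2, -4, 2, 0, -2, -2, 0, -2, 0, -2, -2, -2, -2, 0, -2, 0, 2, 0, 0, -2, 0, 0, 0],
    [-2, 0, -2, -4, -2, 0, 0, -2, 0, 2, 0, 0, 0, 0, -2, 0, -2, 0, 2, -2, 0, 2, 2, 2],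
    [0, 2, 0, 2, -4, -2, 2, 0, -2, 0, 2, -2, 2, -2, 0, 2, 0, -2, 0, 0, 2, 0, 0, 0],
    [-2, 0, 2, 0, 2, -4, 0, 2, 0, 2, 0, 0, 0, 0, -2, 0, 2, 0, 2, 2, 0, 2, 2, -2],
    [-2, 0, 2, 0, -2, 0, -4, -2, 0, -2, 0, 0, 0, 0, -2, 0, 2, 0, -2, 2, 0, -2, 2, 2],
    [0, -2, 0, 2, 0, -2, 2, -4, 2, 0, 2, 2, -2, -2, 0, 2, 0, 2, 0, 0, -2, 0, 0, 0],
    [2, 0, 2, 0, 2, 0, 0, -2, -4, -2, 0, 0, 0, 0, -2, 0, -2, 0, 2, -2, 0, -2, 2, -2],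
    [0, 2, 0, -2, 0, -2, 2, 0, 2, -4, -2, -2, -2, 2, 0, 2, 0, 2, 0, 0, 2, 0, 0, 0],
    [2, 0, 2, 0, -2, 0, 0, -2, 0, 2, -4, 0, 0, 0, -2, 0, -2, 0, -2, 2, 0, 2, -2, -2],
    [2, 0, 2, 0, 2, 0, 0, -2, 0, 2, 0, -4, 0, 0, 2, 0, 2, 0, -2, -2, 0, 2, 2, 2],
    [-2, 0, 2, 0, -2, 0, 0, 2, 0, 2, 0, 0, -4, 0, 2, 0, -2, 0, -2, -2, 0, -2, 2, -2],
    [-2, 0, 2, 0, 2, 0, 0, 2, 0, -2, 0, 0, 0, -4, -2, 0, -2, 0, -2, -2, 0, 2, -2, 2],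
    [0, 2, 0, 2, 0, 2, 2, 0, 2, 0, 2, -2, -2, 2, -4, -2, 0, -2, 0, 0, -2, 0, 0, 0],
    [-2, 0, 2, 0, -2, 0, 0, -2, 0, -2, 0, 0, 0, 0, 2, -4, 2, 0, 2, -2, 0, 2, -2, -2],
    [0, -2, 0, 2, 0, -2, -2, 0, 2, 0, 2, -2, 2, 2, 0, -2, -4, 2, 0, 0, 2, 0, 0, 0],
    [-2, 0, -2, 0, 2, 0, 0, -2, 0, -2, 0, 0, 0, 0, 2, 0, -2, -4, -2, 2, 0, 2, 2, -2],
    [0, 2, 0, -2, 0, -2, 2, 0, -2, 0, 2, 2, 2, 2, 0, -2, 0, 2, -4, 0, -2, 0, 0, 0],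
    [0, 2, 0, 2, 0, -2, -2, 0, 2, 0, -2, 2, 2, 2, 0, 2, 0, -2, 0, -4, -2, 0, 0, 0],
    [2, 0, 2, 0, -2, 0, 0, 2, 0, -2, 0, 0, 0, 0, 2, 0, -2, 0, 2, 2, -4, 2, 2, 2],
    [0, -2, 0, -2, 0, -2, 2, 0, 2, 0, -2, -2, 2, -2, 0, -2, 0, -2, 0, 0, -2, -4, 0, 0],
    [0, -2, 0, -2, 0, -2, -2, 0, -2, 0, 2, -2, -2, 2, 0, 2, 0, -2, 0, 0, -2, 0, -4, 0],
    [0, 2, 0, -2, 0, 2, -2, 0, 2, 0, 2, -2, 2, -2, 0, 2, 0, 2, 0, 0, -2, 0, 0, -4]]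

theorem okW : Ok rW cW := Ok.of_bool (by decide +kernel)

/-- rows -/
def rR : List (List ℤ) :=
  [[-1, 1, 1, -1, -1, -3, 1, -1, -1, 1, -1, -1, -1, 1, -1, 1, 3, 3, -3, 1, -3, 1, -1, 1],
    [1, -1, -1, 1, 1, 3, 3, 1, 1, 3, 1, 1, 1, -1, 1, 3, 1, 1, -1, -1, -1, -1, 1, 3],
    [-1, 1, -3, -1, -1, -3, 1, -1, -1, 1, -1, 3, 3, 1, -1, 1, -1, -1, 1, 1, 1, -3, -1, 1],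
    [-3, -1, -1, -3, 1, -1, -1, 1, 1, -1, 1, 1, 1, -1, 1, -1, 1, 1, -1, -5, -1, -1, 1, -1],
    [1, 3, -1, 1, 1, -1, -1, 1, 1, 3, -3, 1, 1, -1, 1, -1, 1, -3, -1, -1, -1, 3, 1, -1],
    [-3, -1, -1, 5, 1, -1, -1, 1, 1, -1, 1, 1, 1, -1, 1, -1, 1, 1, -1, 3, -1, -1, 1, -1],
    [-1, -3, -3, -1, -1, 1, 1, -1, 3, 1, -1, -1, -1, 1, -1, -3, 3, -1, 1, 1, 1, 1, -1, 1],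
    [1, -1, -1, 1, -3, -1, -1, -3, 1, -1, 1, 1, 1, -1, 1, 3, 1, 1, 3, -1, -1, 3, 1, -1],
    [-1, -3, 1, -1, 3, 1, 1, -1, -1, 1, -1, 3, -1, 1, -1, 1, -1, -1, 1, 1, -3, 1, -1, -3],
    [1, -1, -1, 1, -3, -1, -1, 1, 1, 3, 1, 1, -3, -1, 1, -1, -3, 1, -1, -1, -1, -1, -3, -1],
    [1, -1, -1, 1, 1, -1, -1, 1, -3, 3, 1, -3, 1, 3, 1, -1, 1, 1, 3, -1, -1, -1, 1, -1],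
    [-1, 1, 1, -1, -1, 1, 1, -1, -1, 1, 3, -1, 3, -3, -1, -3, -1, -1, 1, 1, -3, 1, -1, 1],
    [1, -1, -1, 1, 1, -1, -1, 1, 1, -1, 1, -3, 1, -1, -3, 3, 1, -3, -1, -1, -1, -1, -3, -1],
    [-1, 1, -3, -1, 3, 1, -3, -1, -1, 1, -1, -1, -1, -3, -1, 1, -1, 3, 1, 1, 1, 1, -1, 1],
    [1, -1, -1, 1, -3, 3, -1, 1, -3, -1, -3, 1, 1, -1, -3, -1, 1, 1, -1, -1, -1, -1, 1, -1],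
    [1, -1, -1, 1, 1, -1, 3, -3, 1, -1, -3, -3, 1, -1, 1, -1, -3, 1, -1, -1, -1, -1, 1, -1],
    [-1, 1, 1, -1, -1, 1, -3, -1, 3, 1, -1, -1, -1, 1, -1, 1, -1, -1, 1, 1, -3, -3, 3, 1],
    [1, 3, -1, 1, 1, 3, -1, -3, 1, -1, 1, 1, 1, 3, 1, -1, 1, 1, -1, -1, -1, -1, -3, -1],
    [1, -1, -1, 1, 1, -1, -1, -3, -3, -1, 1, 1, -3, -1, 1, -1, 1, -3, -1, -1, -1, -1, 1, 3],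
    [1, -1, -1, 1, 1, -1, -1, 1, 1, -1, 1, 1, 1, 3, -3, -1, -3, 1, -1, -1, -1, 3, 1, 3],
    [1, 3, -1, 1, 1, -1, 3, 1, 1, -1, 1, 1, -3, -1, -3, -1, 1, 1, 3, -1, -1, -1, 1, -1],
    [-1, 1, -3, -1, -1, 1, 1, -1, -1, 1, 3, -1, -1, 1, -1, 1, -1, -1, -3, 1, 1, 1, 3, -3],
    [1, -1, 3, 1, 1, -1, -1, -3, 1, 3, 1, 1, 1, -1, -3, -1, 1, 1, -1, -1, 3, -1, 1, -1],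
    [5, -1, -1, -3, 1, -1, -1, 1, 1, -1, 1, 1, 1, -1, 1, -1, 1, 1, -1, 3, -1, -1, 1, -1]]

/-- columns -/
def cR : List (List ℤ) :=
  [[-1, 1, -1, -3, 1, -3, -1, 1, -1, 1, 1, -1, 1, -1, 1, 1, -1, 1, 1, 1, 1, -1, 1, 5],
    [1, -1, 1, -1, 3, -1, -3, -1, -3, -1, -1, 1, -1, 1, -1, -1, 1, 3, -1, -1, 3, 1, -1, -1],
    [1, -1, -3, -1, -1, -1, -3, -1, 1, -1, -1, 1, -1, -3, -1, -1, 1, -1, -1, -1, -1, -3, 3, -1],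
    [-1, 1, -1, -3, 1, 5, -1, 1, -1, 1, 1, -1, 1, -1, 1, 1, -1, 1, 1, 1, 1, -1, 1, -3],
    [-1, 1, -1, 1, 1, 1, -1, -3, 3, -3, 1, -1, 1, 3, -3, 1, -1, 1, 1, 1, 1, -1, 1, 1],
    [-3, 3, -3, -1, -1, -1, 1, -1, 1, -1, -1, 1, -1, 1, 3, -1, 1, 3, -1, -1, -1, 1, -1, -1],
    [1, 3, 1, -1, -1, -1, 1, -1, 1, -1, -1, 1, -1, -3, -1, 3, -3, -1, -1, -1, 3, 1, -1, -1],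
    [-1, 1, -1, 1, 1, 1, -1, -3, -1, 1, 1, -1, 1, -1, 1, -3, -1, -3, -3, 1, 1, -1, -3, 1],
    [-1, 1, -1, 1, 1, 1, 3, 1, -1, 1, -3, -1, 1, -1, -3, 1, 3, 1, -3, 1, 1, -1, 1, 1],
    [1, 3, 1, -1, 3, -1, 1, -1, 1, 3, 3, 1, -1, 1, -1, -1, 1, -1, -1, -1, -1, 1, 3, -1],
    [-1, 1, -1, 1, -3, 1, -1, 1, -1, 1, 1, 3, 1, -1, -3, -3, -1, 1, 1, 1, 1, 3, 1, 1],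
    [-1, 1, 3, 1, 1, 1, -1, 1, 3, 1, -3, -1, -3, -1, 1, -3, -1, 1, 1, 1, 1, -1, 1, 1],
    [-1, 1, 3, 1, 1, 1, -1, 1, -1, -3, 1, 3, 1, -1, 1, 1, -1, 1, -3, 1, -3, -1, 1, 1],
    [1, -1, 1, -1, -1, -1, 1, -1, 1, -1, 3, -3, -1, -3, -1, -1, 1, 3, -1, 3, -1, 1, -1, -1],
    [-1, 1, -1, 1, 1, 1, -1, 1, -1, 1, 1, -1, -3, -1, -3, 1, -1, 1, 1, -3, -3, -1, -3, 1],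
    [1, 3, 1, -1, -1, -1, -3, 3, 1, -1, -1, -3, 3, 1, -1, -1, 1, -1, -1, -1, -1, 1, -1, -1],
    [3, 1, -1, 1, 1, 1, 3, 1, -1, -3, 1, -1, 1, -1, 1, -3, -1, 1, 1, -3, 1, -1, 1, 1],
    [3, 1, -1, 1, -3, 1, -1, 1, -1, 1, 1, -1, -3, 3, 1, 1, -1, 1, -3, 1, 1, -1, 1, 1],
    [-3, -1, 1, -1, -1, -1, 1, 3, 1, -1, 3, 1, -1, 1, -1, -1, 1, -1, -1, -1, 3, -3, -1, -1],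
    [1, -1, 1, -5, -1, 3, 1, -1, 1, -1, -1, 1, -1, 1, -1, -1, 1, -1, -1, -1, -1, 1, -1, 3],
    [-3, -1, 1, -1, -1, -1, 1, -1, -3, -1, -1, -3, -1, 1, -1, -1, -3, -1, -1, -1, -1, 1, 3, -1],
    [1, -1, -3, -1, 3, -1, 1, 3, 1, -1, -1, 1, -1, 1, -1, -1, -3, -1, -1, 3, -1, 1, -1, -1],
    [-1, 1, -1, 1, 1, 1, -1, 1, -1, -3, 1, -1, -3, -1, 1, 1, 3, -3, 1, 1, 1, 3, 1, 1],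
    [1, 3, 1, -1, -1, -1, 1, -1, -3, -1, -1, 1, -1, 1, -1, -1, 1, -1, 3, 3, -1, -3, -1, -1]]

theorem okR : Ok rR cR := Ok.of_bool (by decide +kernel)

/-- rows -/
def rT : List (List ℤ) :=
  [[3, 1, -1, 1, 1, 1, -1, 1, 1, -1, 1, -1, 1, -3, -1, -1, -1, -1, -1, 1, 1, -1, -1, 5],
    [-3, -1, 1, -1, -1, -1, 1, -1, -1, 1, -1, 1, -1, -5, 1, 1, 1, 1, 1, -1, -1, 1, 1, 3],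
    [-1, 1, 3, -3, 1, 1, -1, -3, 1, -1, 1, 3, 1, 1, -1, 3, -1, -1, -1, 1, 1, -1, -1, 1],
    [-1, 1, -1, -3, 1, 1, -1, 1, 1, -1, 1, -1, 1, 1, 3, -1, 3, -1, -1, -3, 1, 3, -1, 1],
    [1, -1, 1, -1, -1, -1, 1, 3, 3, 1, -1, 1, -1, -1, 1, 1, 1, 1, -3, -1, -1, -3, -3, -1],
    [-1, 1, -1, -3, 1, 1, -1, 1, 1, 3, 1, -1, 1, 1, -1, -1, -1, 3, -1, 1, -3, -1, 3, 1],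
    [1, -1, -3, -1, -1, -1, -3, -1, -1, -3, -1, 1, -1, -1, -3, 1, 1, 1, -3, -1, -1, 1, 1, -1],
    [-1, -3, 3, 1, -3, 1, -1, 1, 1, -1, 1, -1, 1, 1, -1, -1, 3, -1, -1, 1, 1, -1, 3, 1],
    [-1, 1, -1, 1, 1, -3, -1, 1, 1, -1, -3, -1, 1, 1, 3, 3, -1, -1, -1, 1, 1, -1, 3, 1],
    [1, -1, 1, -1, -1, -1, 1, -1, -1, 1, 3, -3, -1, -1, 1, 1, -3, 1, -3, -1, 3, 1, 1, -1],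
    [-1, 1, -1, 1, -3, 1, -1, 1, -3, -1, 1, 3, 1, 1, 3, -1, -1, 3, -1, 1, 1, -1, -1, 1],
    [1, -1, 1, -1, 3, -1, -3, -1, -1, 1, -1, 1, -1, -1, 1, -3, 1, 1, 1, -1, 3, -3, 1, -1],
    [-1, -3, -1, 1, 1, 1, -1, 1, 1, -1, 1, -1, 1, 1, -1, 3, -1, 3, 3, -3, 1, -1, -1, 1],
    [1, 3, 1, -1, -1, -1, 1, 3, -1, 1, -1, 1, 3, -1, -3, 1, 1, 1, 1, -1, 3, 1, 1, -1],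
    [1, 3, 1, 3, -1, -1, -3, -1, 3, 1, 3, 1, -1, -1, 1, 1, 1, 1, 1, -1, -1, 1, 1, -1],
    [1, -1, 1, -1, -1, -1, -3, -1, -1, 1, -1, -3, 3, -1, 1, 1, 1, 1, 1, 3, -1, 1, -3, -1],
    [-1, 1, -1, 1, 1, -3, 3, -3, 1, -1, 1, -1, 1, 1, -1, -1, 3, 3, -1, 1, 1, -1, -1, 1],
    [1, -1, 1, 3, 3, 3, 1, -1, -1, 1, -1, 1, 3, -1, 1, 1, 1, 1, -3, -1, -1, 1, 1, -1],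
    [1, -1, 1, -1, -1, -1, 1, -1, 3, -3, -1, 1, 3, -1, 1, -3, -3, 1, 1, -1, -1, 1, 1, -1],
    [-1, 1, 3, 1, 1, 1, -1, 1, 1, -1, -3, -1, -3, 1, -1, -1, -1, 3, -1, 1, 1, 3, -1, 1],
    [-1, -3, -1, 1, 1, -3, -1, 1, 1, 3, 1, 3, 1, 1, -1, -1, -1, -1, -1, 1, 1, 3, -1, 1],
    [1, -1, -3, -1, -1, 3, 1, -1, 3, 1, -1, 1, -1, -1, 1, 1, 1, 1, 1, 3, 3, 1, 1, -1],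
    [-1, 1, -1, 1, -3, 1, -1, -3, 1, 3, -3, -1, 1, 1, -1, -1, -1, -1, -1, -3, 1, -1, -1, 1],
    [5, -1, 1, -1, -1, -1, 1, -1, -1, 1, -1, 1, -1, 3, 1, 1, 1, 1, 1, -1, -1, 1, 1, 3]]

/-- columns -/
def cT : List (List ℤ) :=
  [[3, -3, -1, -1, 1, -1, 1, -1, -1, 1, -1, 1, -1, 1, 1, 1, -1, 1, 1, -1, -1, 1, -1, 5],
    [1, -1, 1, 1, -1, 1, -1, -3, 1, -1, 1, -1, -3, 3, 3, -1, 1, -1, -1, 1, -3, -1, 1, -1],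
    [-1, 1, 3, -1, 1, -1, -3, 3, -1, 1, -1, 1, -1, 1, 1, 1, -1, 1, 1, 3, -1, -3, -1, 1],
    [1, -1, -3, -3, -1, -3, -1, 1, 1, -1, 1, -1, 1, -1, 3, -1, 1, 3, -1, 1, 1, -1, 1, -1],
    [1, -1, 1, 1, -1, 1, -1, -3, 1, -1, -3, 3, 1, -1, -1, -1, 1, 3, -1, 1, 1, -1, -3, -1],
    [1, -1, 1, 1, -1, 1, -1, 1, -3, -1, 1, -1, 1, -1, -1, -1, -3, 3, -1, 1, -3, 3, 1, -1],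
    [-1, 1, -1, -1, 1, -1, -3, -1, -1, 1, -1, -3, -1, 1, -3, -3, 3, 1, 1, -1, -1, 1, -1, 1],
    [1, -1, -3, 1, 3, 1, -1, 1, 1, -1, 1, -1, 1, 3, -1, -1, -3, -1, -1, 1, 1, -1, -3, -1],
    [1, -1, 1, 1, 3, 1, -1, 1, 1, -1, -3, -1, 1, -1, 3, -1, 1, -1, 3, 1, 1, 3, 1, -1],
    [-1, 1, -1, -1, 1, 3, -3, -1, -1, 1, -1, 1, -1, 1, 1, 1, -1, 1, -3, -1, 3, 1, 3, 1],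
    [1, -1, 1, 1, -1, 1, -1, 1, -3, 3, 1, -1, 1, -1, 3, -1, 1, -1, -1, -3, 1, -1, -3, -1],
    [-1, 1, 3, -1, 1, -1, 1, -1, -1, -3, 3, 1, -1, 1, 1, -3, -1, 1, 1, -1, 3, 1, -1, 1],
    [1, -1, 1, 1, -1, 1, -1, 1, 1, -1, 1, -1, 1, 3, -1, 3, 1, 3, 3, -3, 1, -1, 1, -1],
    [-3, -5, 1, 1, -1, 1, -1, 1, 1, -1, 1, -1, 1, -1, -1, -1, 1, -1, -1, 1, 1, -1, 1, 3],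
    [-1, 1, -1, 3, 1, -1, -3, -1, 3, 1, 3, 1, -1, -3, 1, 1, -1, 1, 1, -1, -1, 1, -1, 1],
    [-1, 1, 3, -1, 1, -1, 1, -1, 3, 1, -1, -3, 3, 1, 1, 1, -1, 1, -3, -1, -1, 1, -1, 1],
    [-1, 1, -1, 3, 1, -1, 1, 3, -1, -3, -1, 1, -1, 1, 1, 1, 3, 1, -3, -1, -1, 1, -1, 1],
    [-1, 1, -1, -1, 1, 3, 1, -1, -1, 1, 3, 1, 3, 1, 1, 1, 3, 1, 1, 3, -1, 1, -1, 1],
    [-1, 1, -1, -1, -3, -1, -3, -1, -1, -3, -1, 1, 3, 1, 1, 1, -1, -3, 1, -1, -1, 1, -1, 1],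
    [1, -1, 1, -3, -1, 1, -1, 1, 1, -1, 1, -1, -3, -1, -1, 3, 1, -1, -1, 1, 1, 3, -3, -1],
    [1, -1, 1, 1, -1, -3, -1, 1, 1, 3, 1, 3, 1, 3, -1, -1, 1, -1, -1, 1, 1, 3, 1, -1],
    [-1, 1, -1, 3, -3, -1, 1, -1, -1, 1, -1, -3, -1, 1, 1, 1, -1, 1, 1, 3, 3, 1, -1, 1],
    [-1, 1, -1, -1, -3, 3, 1, 3, 3, 1, -1, 1, -1, 1, 1, -3, -1, 1, 1, -1, -1, 1, -1, 1],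
    [5, 3, 1, 1, -1, 1, -1, 1, 1, -1, 1, -1, 1, -1, -1, -1, 1, -1, -1, 1, 1, -1, 1, 3]]

theorem okT : Ok rT cT := Ok.of_bool (by decide +kernel)

/-- rows -/
def rU : List (List ℤ) :=
  [[-1, 1, 1, -1, 1, 1, 1, 1, 1, 1, 1, -3, -3, -1, -1, -3, -1, 1, -3, -1, 1, -1, 1, 3],
    [1, -1, -1, 1, 3, -1, -1, -1, 3, -1, -1, 3, -1, 1, 1, -1, 1, 3, -1, 1, -1, -3, -1, 1],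
    [1, -1, 3, 1, -1, -1, -1, -1, -1, -1, -1, 3, -1, -3, 1, -1, 1, -1, -1, 1, 3, 1, 3, 1],
    [-1, 1, 1, -5, 1, 1, 1, 1, 1, 1, 1, 1, 1, -1, -1, 1, 3, 1, 1, 3, 1, -1, 1, -1],
    [1, 3, -1, 1, 3, -1, -1, -1, -1, -1, 3, -1, -1, -3, 1, -1, 1, -1, 3, 1, -1, 1, -1, 1],
    [1, -1, -1, 1, -1, 3, 3, -1, 3, -1, -1, -1, 3, -3, 1, -1, 1, -1, -1, 1, -1, 1, -1, 1],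
    [1, -1, -1, 1, -1, 3, -1, -1, -1, -1, 3, -1, -1, 1, 1, 3, 1, -1, -1, 1, -1, -3, 3, 1],
    [1, -1, -1, 1, -1, -1, -1, 3, -1, 3, -1, -1, -1, -3, 1, 3, 1, 3, -1, 1, -1, 1, -1, 1],
    [1, 3, -1, 1, -1, 3, -1, -1, -1, 3, -1, 3, -1, 1, -3, -1, 1, -1, -1, 1, -1, 1, -1, 1],
    [1, -1, -1, 1, -1, -1, -1, 3, 3, -1, -1, -1, -1, 1, -3, -1, 1, -1, 3, 1, -1, 1, 3, 1],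
    [1, -1, -1, 1, 3, -1, 3, -1, -1, -1, -1, -1, -1, 1, -3, 3, 1, -1, -1, 1, 3, 1, -1, 1],
    [-3, 3, 3, 1, -1, -1, -1, -1, 3, -1, -1, -1, -1, 1, 1, 3, 1, -1, -1, 1, -1, 1, -1, 1],
    [-3, -1, -1, 1, -1, 3, -1, -1, -1, -1, -1, -1, -1, 1, 1, -1, 1, 3, 3, 1, 3, 1, -1, 1],
    [-1, 1, -3, -1, -3, -3, 1, -3, 1, 1, 1, 1, 1, -1, -1, 1, -1, 1, 1, -1, 1, -1, 1, 3],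
    [-1, 1, 1, -1, 1, 1, 1, 1, -3, -3, -3, 1, 1, -1, -1, 1, -1, 1, 1, -1, -3, -1, 1, 3],
    [-3, -1, -1, 1, -1, -1, 3, 3, -1, -1, 3, 3, -1, 1, 1, -1, 1, -1, -1, 1, -1, 1, -1, 1],
    [-1, 1, 1, 3, 1, 1, 1, 1, 1, 1, 1, 1, 1, -1, -1, 1, 3, 1, 1, -5, 1, -1, 1, -1],
    [1, 3, -1, 1, -1, -1, -1, 3, -1, -1, -1, -1, 3, 1, 1, -1, 1, -1, -1, 1, 3, -3, -1, 1],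
    [-3, -1, -1, 1, 3, -1, -1, -1, -1, 3, -1, -1, 3, 1, 1, -1, 1, -1, -1, 1, -1, 1, 3, 1],
    [-1, 1, 1, 3, 1, 1, 1, 1, 1, 1, 1, 1, 1, -1, -1, 1, -5, 1, 1, 3, 1, -1, 1, -1],
    [1, -1, 3, 1, -1, -1, -1, -1, -1, -1, 3, -1, 3, 1, -3, -1, 1, 3, -1, 1, -1, 1, -1, 1],
    [-1, -3, 1, -1, 1, 1, -3, 1, 1, 1, 1, 1, 1, -1, -1, 1, -1, -3, 1, -1, 1, -1, -3, 3],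
    [1, -1, 3, 1, -1, -1, 3, -1, -1, 3, -1, -1, -1, 1, 1, -1, 1, -1, 3, 1, -1, -3, -1, 1],
    [3, 1, 1, -1, 1, 1, 1, 1, 1, 1, 1, 1, 1, 3, 3, 1, -1, 1, 1, -1, 1, 3, 1, 3]]

/-- columns -/
def cU : List (List ℤ) :=
  [[-1, 1, 1, -1, 1, 1, 1, 1, 1, 1, 1, -3, -3, -1, -1, -3, -1, 1, -3, -1, 1, -1, 1, 3],
    [1, -1, -1, 1, 3, -1, -1, -1, 3, -1, -1, 3, -1, 1, 1, -1, 1, 3, -1, 1, -1, -3, -1, 1],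
    [1, -1, 3, 1, -1, -1, -1, -1, -1, -1, -1, 3, -1, -3, 1, -1, 1, -1, -1, 1, 3, 1, 3, 1],
    [-1, 1, 1, -5, 1, 1, 1, 1, 1, 1, 1, 1, 1, -1, -1, 1, 3, 1, 1, 3, 1, -1, 1, -1],
    [1, 3, -1, 1, 3, -1, -1, -1, -1, -1, 3, -1, -1, -3, 1, -1, 1, -1, 3, 1, -1, 1, -1, 1],
    [1, -1, -1, 1, -1, 3, 3, -1, 3, -1, -1, -1, 3, -3, 1, -1, 1, -1, -1, 1, -1, 1, -1, 1],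
    [1, -1, -1, 1, -1, 3, -1, -1, -1, -1, 3, -1, -1, 1, 1, 3, 1, -1, -1, 1, -1, -3, 3, 1],
    [1, -1, -1, 1, -1, -1, -1, 3, -1, 3, -1, -1, -1, -3, 1, 3, 1, 3, -1, 1, -1, 1, -1, 1],
    [1, 3, -1, 1, -1, 3, -1, -1, -1, 3, -1, 3, -1, 1, -3, -1, 1, -1, -1, 1, -1, 1, -1, 1],
    [1, -1, -1, 1, -1, -1, -1, 3, 3, -1, -1, -1, -1, 1, -3, -1, 1, -1, 3, 1, -1, 1, 3, 1],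
    [1, -1, -1, 1, 3, -1, 3, -1, -1, -1, -1, -1, -1, 1, -3, 3, 1, -1, -1, 1, 3, 1, -1, 1],
    [-3, 3, 3, 1, -1, -1, -1, -1, 3, -1, -1, -1, -1, 1, 1, 3, 1, -1, -1, 1, -1, 1, -1, 1],
    [-3, -1, -1, 1, -1, 3, -1, -1, -1, -1, -1, -1, -1, 1, 1, -1, 1, 3, 3, 1, 3, 1, -1, 1],
    [-1, 1, -3, -1, -3, -3, 1, -3, 1, 1, 1, 1, 1, -1, -1, 1, -1, 1, 1, -1, 1, -1, 1, 3],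
    [-1, 1, 1, -1, 1, 1, 1, 1, -3, -3, -3, 1, 1, -1, -1, 1, -1, 1, 1, -1, -3, -1, 1, 3],
    [-3, -1, -1, 1, -1, -1, 3, 3, -1, -1, 3, 3, -1, 1, 1, -1, 1, -1, -1, 1, -1, 1, -1, 1],
    [-1, 1, 1, 3, 1, 1, 1, 1, 1, 1, 1, 1, 1, -1, -1, 1, 3, 1, 1, -5, 1, -1, 1, -1],
    [1, 3, -1, 1, -1, -1, -1, 3, -1, -1, -1, -1, 3, 1, 1, -1, 1, -1, -1, 1, 3, -3, -1, 1],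
    [-3, -1, -1, 1, 3, -1, -1, -1, -1, 3, -1, -1, 3, 1, 1, -1, 1, -1, -1, 1, -1, 1, 3, 1],
    [-1, 1, 1, 3, 1, 1, 1, 1, 1, 1, 1, 1, 1, -1, -1, 1, -5, 1, 1, 3, 1, -1, 1, -1],
    [1, -1, 3, 1, -1, -1, -1, -1, -1, -1, 3, -1, 3, 1, -3, -1, 1, 3, -1, 1, -1, 1, -1, 1],
    [-1, -3, 1, -1, 1, 1, -3, 1, 1, 1, 1, 1, 1, -1, -1, 1, -1, -3, 1, -1, 1, -1, -3, 3],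
    [1, -1, 3, 1, -1, -1, 3, -1, -1, 3, -1, -1, -1, 1, 1, -1, 1, -1, 3, 1, -1, -3, -1, 1],
    [3, 1, 1, -1, 1, 1, 1, 1, 1, 1, 1, 1, 1, 3, 3, 1, -1, 1, 1, -1, 1, 3, 1, 3]]

theorem okU : Ok rU cU := Ok.of_bool (by decide +kernel)

/-- rows -/
def rB : List (List ℤ) :=
  [[8, 0, 0, 0, 0, 0, 0, 0, 0, 0, 0, 0, 0, 0, 0, 0, 0, 0, 0, 0, 0, 0, 0, 0],
    [0, 0, 0, 0, 0, 0, 0, 0, 0, 0, 0, 0, 8, 0, 0, 0, 0, 0, 0, 0, 0, 0, 0, 0],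
    [0, 8, 0, 0, 0, 0, 0, 0, 0, 0, 0, 0, 0, 0, 0, 0, 0, 0, 0, 0, 0, 0, 0, 0],
    [0, 0, 0, 0, 0, 0, 0, 0, 0, 0, 0, 0, 0, 8, 0, 0, 0, 0, 0, 0, 0, 0, 0, 0],
    [0, 0, 8, 0, 0, 0, 0, 0, 0, 0, 0, 0, 0, 0, 0, 0, 0, 0, 0, 0, 0, 0, 0, 0],
    [0, 0, 0, 0, 0, 0, 0, 0, 0, 0, 0, 0, 0, 0, 8, 0, 0, 0, 0, 0, 0, 0, 0, 0],
    [0, 0, 0, 8, 0, 0, 0, 0, 0, 0, 0, 0, 0, 0, 0, 0, 0, 0, 0, 0, 0, 0, 0, 0],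
    [0, 0, 0, 0, 0, 0, 0, 0, 0, 0, 0, 0, 0, 0, 0, 8, 0, 0, 0, 0, 0, 0, 0, 0],
    [0, 0, 0, 0, 8, 0, 0, 0, 0, 0, 0, 0, 0, 0, 0, 0, 0, 0, 0, 0, 0, 0, 0, 0],
    [0, 0, 0, 0, 0, 0, 0, 0, 0, 0, 0, 0, 0, 0, 0, 0, 8, 0, 0, 0, 0, 0, 0, 0],
    [0, 0, 0, 0, 0, 8, 0, 0, 0, 0, 0, 0, 0, 0, 0, 0, 0, 0, 0, 0, 0, 0, 0, 0],
    [0, 0, 0, 0, 0, 0, 0, 0, 0, 0, 0, 0, 0, 0, 0, 0, 0, 8, 0, 0, 0, 0, 0, 0],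
    [0, 0, 0, 0, 0, 0, 8, 0, 0, 0, 0, 0, 0, 0, 0, 0, 0, 0, 0, 0, 0, 0, 0, 0],
    [0, 0, 0, 0, 0, 0, 0, 0, 0, 0, 0, 0, 0, 0, 0, 0, 0, 0, 8, 0, 0, 0, 0, 0],
    [0, 0, 0, 0, 0, 0, 0, 8, 0, 0, 0, 0, 0, 0, 0, 0, 0, 0, 0, 0, 0, 0, 0, 0],
    [0, 0, 0, 0, 0, 0, 0, 0, 0, 0, 0, 0, 0, 0, 0, 0, 0, 0, 0, 8, 0, 0, 0, 0],
    [0, 0, 0, 0, 0, 0, 0, 0, 8, 0, 0, 0, 0, 0, 0, 0, 0, 0, 0, 0, 0, 0, 0, 0],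
    [0, 0, 0, 0, 0, 0, 0, 0, 0, 0, 0, 0, 0, 0, 0, 0, 0, 0, 0, 0, 8, 0, 0, 0],
    [0, 0, 0, 0, 0, 0, 0, 0, 0, 8, 0, 0, 0, 0, 0, 0, 0, 0, 0, 0, 0, 0, 0, 0],
    [0, 0, 0, 0, 0, 0, 0, 0, 0, 0, 0, 0, 0, 0, 0, 0, 0, 0, 0, 0, 0, 8, 0, 0],
    [0, 0, 0, 0, 0, 0, 0, 0, 0, 0, 8, 0, 0, 0, 0, 0, 0, 0, 0, 0, 0, 0, 0, 0],
    [0, 0, 0, 0, 0, 0, 0, 0, 0, 0, 0, 0, 0, 0, 0, 0, 0, 0, 0, 0, 0, 0, 8, 0],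
    [0, 0, 0, 0, 0, 0, 0, 0, 0, 0, 0, 8, 0, 0, 0, 0, 0, 0, 0, 0, 0, 0, 0, 0],
    [0, 0, 0, 0, 0, 0, 0, 0, 0, 0, 0, 0, 0, 0, 0, 0, 0, 0, 0, 0, 0, 0, 0, 8]]

/-- columns -/
def cB : List (List ℤ) :=
  [[8, 0, 0, 0, 0, 0, 0, 0, 0, 0, 0, 0, 0, 0, 0, 0, 0, 0, 0, 0, 0, 0, 0, 0],
    [0, 0, 8, 0, 0, 0, 0, 0, 0, 0, 0, 0, 0, 0, 0, 0, 0, 0, 0, 0, 0, 0, 0, 0],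
    [0, 0, 0, 0, 8, 0, 0, 0, 0, 0, 0, 0, 0, 0, 0, 0, 0, 0, 0, 0, 0, 0, 0, 0],
    [0, 0, 0, 0, 0, 0, 8, 0, 0, 0, 0, 0, 0, 0, 0, 0, 0, 0, 0, 0, 0, 0, 0, 0],
    [0, 0, 0, 0, 0, 0, 0, 0, 8, 0, 0, 0, 0, 0, 0, 0, 0, 0, 0, 0, 0, 0, 0, 0],
    [0, 0, 0, 0, 0, 0, 0, 0, 0, 0, 8, 0, 0, 0, 0, 0, 0, 0, 0, 0, 0, 0, 0, 0],
    [0, 0, 0, 0, 0, 0, 0, 0, 0, 0, 0, 0, 8, 0, 0, 0, 0, 0, 0, 0, 0, 0, 0, 0],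
    [0, 0, 0, 0, 0, 0, 0, 0, 0, 0, 0, 0, 0, 0, 8, 0, 0, 0, 0, 0, 0, 0, 0, 0],
    [0, 0, 0, 0, 0, 0, 0, 0, 0, 0, 0, 0, 0, 0, 0, 0, 8, 0, 0, 0, 0, 0, 0, 0],
    [0, 0, 0, 0, 0, 0, 0, 0, 0, 0, 0, 0, 0, 0, 0, 0, 0, 0, 8, 0, 0, 0, 0, 0],
    [0, 0, 0, 0, 0, 0, 0, 0, 0, 0, 0, 0, 0, 0, 0, 0, 0, 0, 0, 0, 8, 0, 0, 0],
    [0, 0, 0, 0, 0, 0, 0, 0, 0, 0, 0, 0, 0, 0, 0, 0, 0, 0, 0, 0, 0, 0, 8, 0],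
    [0, 8, 0, 0, 0, 0, 0, 0, 0, 0, 0, 0, 0, 0, 0, 0, 0, 0, 0, 0, 0, 0, 0, 0],
    [0, 0, 0, 8, 0, 0, 0, 0, 0, 0, 0, 0, 0, 0, 0, 0, 0, 0, 0, 0, 0, 0, 0, 0],
    [0, 0, 0, 0, 0, 8, 0, 0, 0, 0, 0, 0, 0, 0, 0, 0, 0, 0, 0, 0, 0, 0, 0, 0],
    [0, 0, 0, 0, 0, 0, 0, 8, 0, 0, 0, 0, 0, 0, 0, 0, 0, 0, 0, 0, 0, 0, 0, 0],
    [0, 0, 0, 0, 0, 0, 0, 0, 0, 8, 0, 0, 0, 0, 0, 0, 0, 0, 0, 0, 0, 0, 0, 0],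
    [0, 0, 0, 0, 0, 0, 0, 0, 0, 0, 0, 8, 0, 0, 0, 0, 0, 0, 0, 0, 0, 0, 0, 0],
    [0, 0, 0, 0, 0, 0, 0, 0, 0, 0, 0, 0, 0, 8, 0, 0, 0, 0, 0, 0, 0, 0, 0, 0],
    [0, 0, 0, 0, 0, 0, 0, 0, 0, 0, 0, 0, 0, 0, 0, 8, 0, 0, 0, 0, 0, 0, 0, 0],
    [0, 0, 0, 0, 0, 0, 0, 0, 0, 0, 0, 0, 0, 0, 0, 0, 0, 8, 0, 0, 0, 0, 0, 0],
    [0, 0, 0, 0, 0, 0, 0, 0, 0, 0, 0, 0, 0, 0, 0, 0, 0, 0, 0, 8, 0, 0, 0, 0],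
    [0, 0, 0, 0, 0, 0, 0, 0, 0, 0, 0, 0, 0, 0, 0, 0, 0, 0, 0, 0, 0, 8, 0, 0],
    [0, 0, 0, 0, 0, 0, 0, 0, 0, 0, 0, 0, 0, 0, 0, 0, 0, 0, 0, 0, 0, 0, 0, 8]]

theorem okB : Ok rB cB := Ok.of_bool (by decide +kernel)

/-- the matrices -/
def M : ℕ → List (List ℤ)
  | 0 => rI
  | 1 => rJ
  | 2 => rW
  | 3 => rR
  | 4 => rT
  | 5 => rU
  | 6 => rB
  | 7 => cI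
  | 8 => cJ
  | 9 => cW
  | 10 => cR
  | 11 => cT
  | 12 => cU
  | _ => cB

/-- the elements -/
def e : ℕ → Co0
  | 0 => mk okI
  | 1 => mk okJ
  | 2 => mk okW
  | 3 => mk okR
  | 4 => mk okT
  | 5 => mk okU
  | 6 => mk okB
  | 7 => (mk okI)⁻¹
  | 8 => (mk okJ)⁻¹
  | 9 => (mk okW)⁻¹
  | 10 => (mk okR)⁻¹
  | 11 => (mk okT)⁻¹
  | 12 => (mk okU)⁻¹
  | _ => (mk okB)⁻¹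

theorem rep : ∀ i, Rep (e i) (M i)
  | 0 => rep_mk okI
  | 1 => rep_mk okJ
  | 2 => rep_mk okW
  | 3 => rep_mk okR
  | 4 => rep_mk okT
  | 5 => rep_mk okU
  | 6 => rep_mk okB
  | 7 => rep_inv okI
  | 8 => rep_inv okJ
  | 9 => rep_inv okW
  | 10 => rep_inv okR
  | 11 => rep_inv okT
  | 12 => rep_inv okU
  | _ + 13 => rep_inv okB

end Cfsg.Agent.SM.SpB.Mat
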