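import Cfsg.Agent.SM.SpB.Mat
import Cfsg.Agent.MonsterU.Lam2

/-!
# SM (S3570), the socle `Co1` (helper83): blocks of the centralizer of an element of order 13

`Kill x K` : the stabilizer of the set `K x` lies strictly between `G_x ⊓ N(K)` and `G_x`.
-/

set_option autoImplicit false

namespace Cfsg.Agent.SM.SpB

open Cfsg Subgroup MulAction
open scoped Pointwise

section abs

variable {G Ω : Type} [Group G] [MulAction G Ω]

/-- `t` stabilizes the set `K x` and does not normalize `K`, `s` does not stabilize it -/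
def Kill (x : Ω) (K : Subgroup G) : Prop :=
  ∃ t s : G, t • x = x ∧ s • x = x ∧ (∀ k ∈ K, ∃ k' ∈ K, t • k • x = k' • x) ∧ (∃ k ∈ K, t * k * t⁻¹ ∉ K) ∧
    ∃ k ∈ K, ∀ k' ∈ K, s • k • x ≠ k' • x

theorem Kill.conj {x : Ω} {K K' : Subgroup G} (h : Kill x K) (u : G) (hK : ∀ k, u * k * u⁻¹ ∈ K' ↔ k ∈ K) :
    Kill (u • x) K' := by
  obtain ⟨t, s, h1, h2, h3, ⟨k, hk, h4⟩, m, hm, h5⟩ := h
  have e : ∀ a : G, (u * a * u⁻¹) • u • x = u • a • x := fun a => by rw [mul_smul, mul_smul, inv_smul_smul]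
  have e2 : ∀ a b : G, (u * a * u⁻¹) • (u * b * u⁻¹) • u • x = u • a • b • x := fun a b => by
    rw [e, mul_smul, mul_smul, inv_smul_smul]
  have sj : ∀ k', ∃ k, k' = u * k * u⁻¹ := fun k' => ⟨u⁻¹ * k' * u, by group⟩
  refine ⟨u * t * u⁻¹, u * s * u⁻¹, by rw [e, h1], by rw [e, h2], fun k' hk' => ?_, ⟨_, (hK k).2 hk, fun h6 => h4 ?_⟩,
    _, (hK m).2 hm, fun k' hk' h6 => ?_⟩
  · obtain ⟨a, rfl⟩ := sj k'
    obtain ⟨b, hb, h6⟩ := h3 a ((hK a).1 hk')
    exact ⟨_, (hK b).2 hb, by rw [e2, e, h6]⟩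
  · rw [← hK]
    convert h6 using 1
    group
  · obtain ⟨a, rfl⟩ := sj k'
    rw [e2, e, smul_left_cancel_iff] at h6
    exact h5 a ((hK a).1 hk') h6

theorem Kill.false [Finite Ω] {x : Ω} {K Y : Subgroup G} (h : Kill x K) (hY : Y ≤ normalizer (K : Set G))
    (hm : stabilizer G x ⊓ Y ⋖ stabilizer G x) : False := by
  obtain ⟨t, s, h1, h2, h3, ⟨k, hk, h4⟩, m, hm', h5⟩ := h
  have key : ∀ g : G, g ∈ stabilizer G (orbit K x) ↔ ∀ k ∈ K, ∃ k' ∈ K, g • k • x = k' • x := fun g => by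
    rw [mem_stabilizer_set_iff_smul_set_subset (Set.toFinite _)]
    constructor
    · intro h6 k hk
      obtain ⟨k', h7⟩ := h6 (Set.smul_mem_smul_set (mem_orbit x (⟨k, hk⟩ : K)))
      exact ⟨k', k'.2, h7.symm⟩
    · rintro h6 _ ⟨_, ⟨k, rfl⟩, rfl⟩
      obtain ⟨k', h7, h8⟩ := h6 k k.2
      exact ⟨⟨k', h7⟩, h8.symm⟩
  rcases hm.eq_or_eq (c := stabilizer G x ⊓ stabilizer G (orbit K x))
    (fun a ha => ⟨ha.1, (key a).2 fun k hk => ⟨_, (mem_normalizer_iff.1 (hY ha.2) k).1 hk, by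
      rw [mul_smul, mul_smul, show a⁻¹ • x = x from inv_mem (s := stabilizer G x) ha.1]⟩⟩) inf_le_left with e | e
  · have h6 : t ∈ stabilizer G x ⊓ Y := e ▸ ⟨h1, (key t).2 h3⟩
    exact h4 ((mem_normalizer_iff.1 (hY h6.2) k).1 hk)
  · have h6 : s ∈ stabilizer G x ⊓ stabilizer G (orbit K x) := e.symm ▸ h2
    obtain ⟨k', h7, h8⟩ := (key s).1 h6.2 m hm'
    exact h5 k' h7 h8

end abs

open Cfsg.Agent.SporadicStructure.Co0Matrix Cfsg.Agent.CoOneType.CoEval Cfsg.Agent.MonsterU.Lam2 Mat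

/-- the value of a word -/
def val (w : List ℕ) : Spor.Co1 := (w.map fun i => pr (e i)).prod

theorem val_nil : val [] = 1 := rfl

theorem val_append (u w : List ℕ) : val (u ++ w) = val u * val w := by
  rw [val, List.map_append, List.prod_append]; rfl

theorem val_cons (i : ℕ) (w : List ℕ) : val (i :: w) = val [i] * val w := val_append [i] w

theorem val_rel {w : List ℕ} (h : relB M w = true) : val w = 1 := eq_one_of_relB rep h

theorem val_ne {w : List ℕ} (h : neB M w = true) : val w ≠ 1 := ne_one_of_neB rep h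

theorem val_same {u w : List ℕ} (h : sameB M u w = true) : val u = val w := eq_of_sameB rep h

/-- the class of an explicit vector -/
def Is (x : L2) (l : List ℤ) : Prop := l.length ≤ 24 ∧ ∃ v : leechLattice, (v : GolayPt → ℤ) = vec l ∧ cl v = x

theorem Is.smul {x : L2} {l : List ℤ} (h : Is x l) (w : List ℕ) : Is (val w • x) (fold M w l) := by
  obtain ⟨h1, v, h2, rfl⟩ := h
  obtain ⟨h3, h4⟩ := fold_spec rep w h1 h2
  refine ⟨h3, _, h4, ?_⟩
  rw [val, map_prod_pr]
  rfl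

/-- equal up to the sign -/
def pmB (l l' : List ℤ) : Bool := eqL l l' || eqL l (negL l')

theorem Is.eq {x y : L2} {l l' : List ℤ} (h : Is x l) (h' : Is y l') (hb : pmB l l' = true) : x = y := by
  obtain ⟨-, v, h2, rfl⟩ := h
  obtain ⟨-, v', h3, rfl⟩ := h'
  rcases Bool.or_eq_true _ _ ▸ hb with h4 | h4
  · rw [show v = v' from Subtype.ext (by rw [h2, h3, eqL_eq h4])]
  · rw [show v = -v' from Subtype.ext (by rw [h2, eqL_eq h4, vec_negL, ← h3]; rfl), cl_neg]

/-- different classes -/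
def nqB (l l' : List ℤ) : Bool := gens.any fun g => decide ((dotL l g - dotL l' g) % 16 ≠ 0)

theorem Is.ne {x y : L2} {l l' : List ℤ} (h : Is x l) (h' : Is y l') (hb : nqB l l' = true) : x ≠ y := by
  obtain ⟨h1, v, h2, rfl⟩ := h
  obtain ⟨h1', v', h3, rfl⟩ := h'
  obtain ⟨g, hg, h4⟩ := List.any_eq_true.1 hb
  intro h5
  obtain ⟨u, h6⟩ := cl_eq.1 h5
  have h7 := dvd_dot u ⟨vec g, vec_mem_of_leechB (List.all_eq_true.1 gens_leech g hg)⟩
  have h8 : vec l = vec l' + ((u : GolayPt → ℤ) + u) := by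
    rw [← h2, ← h3, sub_eq_iff_eq_add'.1 h6, two_nsmul]; rfl
  refine of_decide_eq_true h4 ?_
  rw [← dotInt_vec l g h1, ← dotInt_vec l' g h1', h8, dotInt_add_left, dotInt_add_left]
  obtain ⟨c, hc⟩ := h7
  change dotInt _ (vec g) = _ at hc
  rw [hc]
  omega

/-- the common check -/
def chkN (L : List (List ℕ)) (t : ℕ) (l : List ℤ) : Bool :=
  pmB (fold M [t] l) l && pmB (fold M [6] l) l && relB M [t, t + 7] &&
    L.all fun u => ([] :: L).all fun u' => neB M (t :: (u ++ (t + 7) :: u')) && nqB (fold M [6] (fold M u l)) (fold M u' l)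

theorem kill_of {L : List (List ℕ)} {P K : Subgroup Spor.Co1} (hP : ∀ z ∈ P, ∃ u ∈ [] :: L, z = val u) (hK : K ≤ P)
    (h0 : K ≠ ⊥) {t : ℕ} {l : List ℤ} {x : L2} (hx : Is x l) (h : chkN L t l = true)
    (h1 : ∀ k ∈ K, ∃ k' ∈ K, val [t] • k • x = k' • x) : Kill x K := by
  simp only [chkN, Bool.and_eq_true, List.all_eq_true] at h
  obtain ⟨⟨⟨h2, h3⟩, h4⟩, h5⟩ := h
  obtain ⟨⟨k, hk⟩, hk1⟩ := ne_bot_iff_exists_ne_one.1 h0
  obtain ⟨u, hu, rfl⟩ := hP k (hK hk)
  have hu' : u ∈ L := (List.mem_cons.1 hu).resolve_left fun e => hk1 (Subtype.ext (by subst e; rfl))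
  have h6 : val [t + 7] = (val [t])⁻¹ := eq_inv_of_mul_eq_one_right (by rw [← val_cons]; exact val_rel h4)
  refine ⟨val [t], val [6], (hx.smul _).eq hx h2, (hx.smul _).eq hx h3, h1, ⟨_, hk, fun h7 => ?_⟩, _, hk,
    fun k' hk' => ?_⟩
  · obtain ⟨u', hu2, h8⟩ := hP _ (hK (inv_mem h7))
    refine val_ne (h5 u hu' u' hu2).1 ?_
    rw [val_cons t, val_append, val_cons (t + 7) u', h6, ← h8]
    group
  · obtain ⟨u', hu2, rfl⟩ := hP _ (hK hk')
    exact ((hx.smul u).smul [6]).ne (hx.smul u') (h5 u hu' u' hu2).2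

/-- the four group -/
def V : Subgroup Spor.Co1 where
  carrier := {z | z = 1 ∨ z = val [0] ∨ z = val [1] ∨ z = val [0] * val [1]}
  one_mem' := Or.inl rfl
  mul_mem' := by
    have h1 : val [0] * val [0] = 1 := by rw [← val_cons]; exact val_rel (by decide +kernel)
    have h2 : val [1] * val [1] = 1 := by rw [← val_cons]; exact val_rel (by decide +kernel)
    have h3 : val [1] * val [0] = val [0] * val [1] := by
      rw [← val_cons, ← val_cons]; exact val_same (by decide +kernel)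
    have h4 : ∀ g, val [0] * (val [0] * g) = g := fun g => by rw [← mul_assoc, h1, one_mul]
    have h5 : ∀ g, val [1] * (val [0] * g) = val [0] * (val [1] * g) := fun g => by rw [← mul_assoc, h3, mul_assoc]
    rintro _ _ (rfl | rfl | rfl | rfl) (rfl | rfl | rfl | rfl) <;>
      simp only [Set.mem_ofPred_eq, one_mul, mul_one, mul_assoc, h1, h2, h3, h4, h5, true_or, or_true]
  inv_mem' := by
    have h1 : val [0] * val [0] = 1 := by rw [← val_cons]; exact val_rel (by decide +kernel)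
    have h2 : val [1] * val [1] = 1 := by rw [← val_cons]; exact val_rel (by decide +kernel)
    have h3 : val [1] * val [0] = val [0] * val [1] := by
      rw [← val_cons, ← val_cons]; exact val_same (by decide +kernel)
    rintro _ (rfl | rfl | rfl | rfl) <;>
      simp only [Set.mem_ofPred_eq, inv_one, mul_inv_rev, inv_eq_of_mul_eq_one_right h1, inv_eq_of_mul_eq_one_right h2,
        h3, true_or, or_true]

theorem mem_V : ∀ z ∈ V, ∃ u ∈ [] :: [[0], [1], [0, 1]], z = val u := by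
  rintro _ (rfl | rfl | rfl | rfl)
  exacts [⟨[], by simp, rfl⟩, ⟨[0], by simp, rfl⟩, ⟨[1], by simp, rfl⟩, ⟨[0, 1], by simp, (val_cons 0 [1]).symm⟩]

theorem card_V : Nat.card V = 4 := by
  have n : ∀ {u w : List ℕ}, neB M (u ++ w) = true → relB M (w ++ w) = true → val u ≠ val w := fun h1 h2 h3 =>
    val_ne h1 (by rw [val_append, h3, ← val_append]; exact val_rel h2)
  have h1 : val [] ≠ val [0] := n (by decide +kernel) (by decide +kernel)
  have h2 : val [] ≠ val [1] := n (by decide +kernel) (by decide +kernel)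
  have h3 : val [] ≠ val [0, 1] := n (by decide +kernel) (by decide +kernel)
  have h4 : val [0] ≠ val [1] := n (by decide +kernel) (by decide +kernel)
  have h5 : val [0] ≠ val [0, 1] := n (by decide +kernel) (by decide +kernel)
  have h6 : val [1] ≠ val [0, 1] := n (by decide +kernel) (by decide +kernel)
  have h7 : (V : Set Spor.Co1) = {val [], val [0], val [1], val [0, 1]} := by
    rw [val_cons 0 [1]]; rfl
  rw [← SetLike.coe_sort_coe, Nat.card_coe_set_eq, h7, Set.ncard_insert_of_notMem (by simp [h1, h2, h3]),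
    Set.ncard_insert_of_notMem (by simp [h4, h5]), Set.ncard_pair h6]

theorem orderOf_w : orderOf (val [2]) = 3 :=
  haveI := Fact.mk Nat.prime_three
  orderOf_eq_prime (by rw [pow_succ, pow_two, ← val_cons, ← val_append]; exact val_rel (by decide +kernel))
    (val_ne (by decide +kernel))

theorem mem_W : ∀ z ∈ zpowers (val [2]), ∃ u ∈ [] :: [[2], [2, 2]], z = val u := by
  classical
  intro z hz
  rw [(isOfFinOrder_iff_pow_eq_one.2 ⟨3, by norm_num, orderOf_w ▸ pow_orderOf_eq_one _⟩).mem_zpowers_iff_mem_range_orderOf,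
    orderOf_w] at hz
  obtain ⟨i, hi, rfl⟩ := Finset.mem_image.1 hz
  have := Finset.mem_range.1 hi
  interval_cases i
  exacts [⟨[], by simp, pow_zero _⟩, ⟨[2], by simp, pow_one _⟩, ⟨[2, 2], by simp, by rw [pow_two, ← val_cons]⟩]

/-- the element of order 13 -/
def r0 : Spor.Co1 := val [3]

theorem orderOf_r0 : orderOf r0 = 13 := by
  have : Fact (Nat.Prime 13) := ⟨by norm_num⟩
  refine orderOf_eq_prime ?_ (val_ne (by decide +kernel))
  have h := val_rel (w := List.replicate 13 3) (by decide +kernel)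
  rwa [val, List.map_replicate, List.prod_replicate, ← mul_one (pr (e 3))] at h

theorem comm_r0 {i : ℕ} (h : sameB M [i, 3] [3, i] = true) : val [i] ∈ centralizer ({r0} : Set Spor.Co1) :=
  mem_centralizer_singleton_iff.2 (by rw [r0, ← val_cons, ← val_cons]; exact val_same h)

theorem V_le : V ≤ centralizer ({r0} : Set Spor.Co1) := by
  have h0 := comm_r0 (i := 0) (by decide +kernel)
  have h1 := comm_r0 (i := 1) (by decide +kernel)
  rintro _ (rfl | rfl | rfl | rfl)
  exacts [one_mem _, h0, h1, mul_mem h0 h1]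

theorem W_le : zpowers (val [2]) ≤ centralizer ({r0} : Set Spor.Co1) := zpowers_le.2 (comm_r0 (by decide +kernel))

/-- all the checks -/
def chk (t : ℕ) (l : List ℤ) : Bool :=
  leechB l && chkN [[0], [1], [0, 1]] t l && chkN [[2], [2, 2]] t l &&
    (([] :: [[0], [1], [0, 1]]).all fun u => pmB (fold M [t] (fold M u l)) (fold M u l)) &&
    ([] :: [[2], [2, 2]]).all fun u => ([] :: [[2], [2, 2]]).any fun u' => pmB (fold M [t] (fold M u l)) (fold M u' l)

theorem kill_chk {t : ℕ} {l : List ℤ} {n : ℤ} (h : chk t l = true) (hn : dotL l l = 16 * n) :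
    ∃ x, IsType n x ∧ (∀ K ≤ V, K ≠ ⊥ → Kill x K) ∧ Kill x (zpowers (val [2])) := by
  simp only [chk, Bool.and_eq_true] at h
  obtain ⟨⟨⟨⟨h1, h2⟩, h3⟩, h4⟩, h5⟩ := h
  have hl : l.length ≤ 24 := by
    simp only [leechB, Bool.and_eq_true, Nat.beq_eq] at h1
    exact h1.1.1.1.le
  have hx : Is (cl ⟨vec l, vec_mem_of_leechB h1⟩) l := ⟨hl, _, rfl, rfl⟩
  refine ⟨_, ⟨_, by rw [sqNorm_eq_dot, ← hn, ← dotInt_vec l l hl], rfl⟩, fun K hK h0 =>
    kill_of mem_V hK h0 hx h2 fun k hk => ⟨k, hk, ?_⟩, kill_of mem_W le_rfl ?_ hx h3 fun k hk => ?_⟩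
  · obtain ⟨u, hu, rfl⟩ := mem_V k (hK hk)
    exact ((hx.smul u).smul [t]).eq (hx.smul u) (List.all_eq_true.1 h4 u hu)
  · exact fun e => val_ne (w := [2]) (by decide +kernel) (zpowers_eq_bot.1 e)
  · obtain ⟨u, hu, rfl⟩ := mem_W k hk
    obtain ⟨u', hu', h6⟩ := List.any_eq_true.1 (List.all_eq_true.1 h5 u hu)
    refine ⟨val u', ?_, ((hx.smul u).smul [t]).eq (hx.smul u') h6⟩
    simp only [List.mem_cons, List.not_mem_nil, or_false] at hu'
    rcases hu' with rfl | rfl | rfl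
    exacts [one_mem _, mem_zpowers _, val_cons 2 [2] ▸ mul_mem (mem_zpowers _) (mem_zpowers _)]

/-- **the model** -/
theorem model {n : ℤ} (hn : n = 2 ∨ n = 3) :
    ∃ x, IsType n x ∧ (∀ K ≤ V, K ≠ ⊥ → Kill x K) ∧ Kill x (zpowers (val [2])) := by
  rcases hn with rfl | rfl
  · exact kill_chk (t := 4) (l := 4 :: (List.replicate 22 0 ++ [4])) (by decide +kernel) (by decide +kernel)
  · exact kill_chk (t := 5) (l := List.replicate 23 (-1) ++ [-5]) (by decide +kernel) (by decide +kernel)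

end Cfsg.Agent.SM.SpB
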