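import Cfsg.Agent.H419.LeechIrr
import Cfsg.Agent.MonsterU.Lam2
import Cfsg.Agent.TAB.Use.Main

/-!
# SM (S3570), the socle `Co1` (helper83): fixed classes in `Λ / 2Λ` from the character of degree 24
-/

set_option autoImplicit false

namespace Cfsg.Agent.SM.SpB

open Cfsg Module Submodule Cfsg.Agent.H419.LeechIrr Cfsg.Agent.MonsterU.Lam2 Cfsg.Agent.Characters
  Cfsg.Agent.SporadicStructure.Co0Base Cfsg.Agent.TAB.Use

variable {G : Type} [Group G]

/-- `toC` is additive -/
def toCh : leechLattice →+ (GolayPt → ℂ) where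
  toFun := toC
  map_zero' := funext fun i => by simp [toC]
  map_add' v w := funext fun i => by simp [toC]

theorem eq_sum (y : GolayPt → ℂ) : y = ∑ i, (y i / 8) • toC (e8 i) := by
  funext j
  rw [Finset.sum_apply, Finset.sum_eq_single j (fun i _ h => by simp [toC, e8_coe, Pi.single_eq_of_ne h.symm])
    fun h => absurd (Finset.mem_univ j) h]
  simp [toC, e8_coe]

/-- a fixed lattice vector outside of a small subspace -/
theorem exists_vec [Finite G] (f : G →* Co0) (W : Submodule ℂ (GolayPt → ℂ)) (h : finrank ℂ W < finrank ℂ (inv f)) :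
    ∃ w : leechLattice, (∀ g, f g • w = w) ∧ toC w ∉ W := by
  have := Fintype.ofFinite G
  by_contra hn
  push Not at hn
  refine h.not_ge (finrank_mono fun y hy => ?_)
  have h1 : ∀ v, ∑ g, rp f g (toC v) ∈ W := fun v => by
    have h2 := hn (∑ g, f g • v) fun g => by
      show smulHom (f g) _ = _
      rw [map_sum]
      exact Fintype.sum_equiv (Equiv.mulLeft g) _ _ fun a => by
        show f g • f a • v = f (g * a) • v
        rw [map_mul, mul_smul]
    change toCh _ ∈ W at h2
    rw [map_sum] at h2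
    exact (Finset.sum_congr rfl fun g _ => repC_toC (f g) v) ▸ h2
  have h2 : ∑ g, rp f g y ∈ W := by
    rw [eq_sum y]
    simp only [map_sum, map_smul]
    rw [Finset.sum_comm]
    exact W.sum_mem fun i _ => by rw [← Finset.smul_sum]; exact W.smul_mem _ (h1 _)
  rw [Finset.sum_congr rfl fun g _ => (Representation.mem_invariants _ _).1 hy g, Finset.sum_const,
    ← Nat.cast_smul_eq_nsmul ℂ] at h2
  exact (W.smul_mem_iff (by simp)).1 h2

theorem descent (f : G →* Co0) {x : leechLattice} (hx : ∀ g, f g • x = x) (D : leechLattice →+ ℤ) (hD : D x = 0) (n : ℕ) :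
    ∀ w, (D w).natAbs = n → D w ≠ 0 → (∀ g, f g • w = w) → ∃ v, (∀ g, f g • v = v) ∧ cl v ≠ 0 ∧ cl v ≠ cl x := by
  induction n using Nat.strong_induction_on with
  | _ n ih =>
    intro w h1 h2 h3
    have key : ∀ u : leechLattice, (∀ g, f g • (2 • u : leechLattice) = 2 • u) → D w = D (2 • u) →
        ∃ v, (∀ g, f g • v = v) ∧ cl v ≠ 0 ∧ cl v ≠ cl x := fun u h4 h5 => by
      rw [map_nsmul, two_nsmul] at h5
      refine ih _ (by omega) u rfl (by omega) fun g => ?_
      have h6 := h4 g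
      rw [smul_two] at h6
      exact nsmul_right_injective two_ne_zero h6
    by_cases h4 : cl w = 0
    · obtain ⟨u, rfl⟩ := cl_eq_zero.1 h4
      exact key u h3 rfl
    by_cases h5 : cl w = cl x
    · obtain ⟨u, h6⟩ := cl_eq.1 h5
      exact key u (fun g => by rw [← h6, co0_smul_sub, h3, hx]) (by rw [← h6, map_sub, hD, sub_zero])
    · exact ⟨w, h3, h4, h5⟩

/-- a coordinate -/
def co (j : GolayPt) : leechLattice →+ ℤ where
  toFun v := (v : GolayPt → ℤ) j
  map_zero' := rfl
  map_add' _ _ := rfl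

/-- a fixed class which is not zero -/
theorem exists_cl0 [Finite G] (f : G →* Co0) (h : 0 < finrank ℂ (inv f)) : ∃ v, (∀ g, f g • v = v) ∧ cl v ≠ 0 := by
  obtain ⟨w, h1, h2⟩ := exists_vec f ⊥ (by rwa [finrank_bot])
  obtain ⟨j, hj⟩ : ∃ j, co j w ≠ 0 := by
    by_contra hn
    push Not at hn
    exact h2 (funext fun j => by rw [toC, show (w : GolayPt → ℤ) j = 0 from hn j]; simp)
  obtain ⟨v, h3, h4, -⟩ := descent f (x := 0) (fun g => co0_smul_zero _) (co j) rfl _ w rfl hj h1
  exact ⟨v, h3, h4⟩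

/-- a second fixed class -/
theorem exists_cl1 [Finite G] (f : G →* Co0) (h : 1 < finrank ℂ (inv f)) {x : leechLattice} (hx : ∀ g, f g • x = x)
    (h0 : cl x ≠ 0) : ∃ v, (∀ g, f g • v = v) ∧ cl v ≠ 0 ∧ cl v ≠ cl x := by
  obtain ⟨w, h1, h2⟩ := exists_vec f (span ℂ {toC x})
    (lt_of_le_of_lt ((finrank_span_le_card _).trans (by simp)) h)
  obtain ⟨i, hi⟩ : ∃ i, co i x ≠ 0 := by
    by_contra hn
    push Not at hn
    exact h0 (by rw [show x = 0 from Subtype.ext (funext hn), map_zero])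
  obtain ⟨j, hj⟩ : ∃ j, (co i x • co j - co j x • co i) w ≠ 0 := by
    by_contra hn
    push Not at hn
    refine h2 (mem_span_singleton.2 ⟨(co i w : ℂ) / co i x, funext fun j => ?_⟩)
    have h3 : co i x * co j w - co j x * co i w = 0 := hn j
    have h4 : (co i x : ℂ) * co j w - co j x * co i w = 0 := by exact_mod_cast h3
    have h5 : (co i x : ℂ) ≠ 0 := by exact_mod_cast hi
    show (co i w : ℂ) / co i x * co j x = co j w
    field_simp
    linear_combination -h4
  exact descent f hx _ (show co i x * co j x - co j x * co i x = 0 by ring) _ w rfl hj h1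

theorem pos_of_fix (f : G →* Co0) {x : leechLattice} (hx : ∀ g, f g • x = x) (h0 : cl x ≠ 0) : 0 < finrank ℂ (inv f) := by
  refine finrank_pos_iff_exists_ne_zero.2 ⟨⟨toC x, toC_mem_inv.2 hx⟩, fun h => h0 ?_⟩
  rw [show x = 0 from toC_injective ((congrArg Subtype.val h).trans toCh.map_zero.symm), map_zero]

theorem sum_lchi [Fintype G] (f : G →* Co0) : ∑ g, lchi f g = Nat.card G * finrank ℂ (inv f) := by
  rw [← classInner_lchi, Core.classInner_def, mul_inv_cancel_left₀ Core.card_ne_zero_complex]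
  simp

theorem lchi_one (f : G →* Co0) : lchi f 1 = 24 := by
  rw [lchi_eq, Representation.char_one]
  simp [GolayPt]

/-- **the character of degree 24 is `1 + χ₂₃`** -/
theorem lchi_dec [Finite G] {n : ℕ} {d : ℕ → ℕ} {χ : ℕ → G → ℂ} (h : Enum G n d χ) (hn : 2 ≤ n) (h1 : d 1 = 23)
    (h2 : ∀ j < n, 2 ≤ j → 25 ≤ d j) (f : G →* Co0) (hf : ∃ g, f g ≠ 1) :
    (∀ g, lchi f g = 1 + χ 1 g) ∧ finrank ℂ (inv f) = 1 := by
  classical
  have := Fintype.ofFinite G
  have := Core.finite_irr (G := G)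
  have : Fintype (IrrCharacter G) := Fintype.ofFinite _
  obtain ⟨c, hc⟩ := Core.exists_nat_comb (isCharacter_lchi f)
  let m : ℕ → ℕ := fun j => if hj : j < n then c ⟨χ j, h.irr j hj⟩ else 0
  have h3 : ∀ g, lchi f g = ∑ j ∈ Finset.range n, m j * χ j g := fun g => by
    rw [congrFun hc g, Finset.sum_apply]
    refine (Finset.sum_bij (fun j hj => ⟨χ j, h.irr j (Finset.mem_range.1 hj)⟩) (fun _ _ => Finset.mem_univ _)
      (fun i hi j hj e => h.inj i (Finset.mem_range.1 hi) j (Finset.mem_range.1 hj) (congrArg Subtype.val e))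
      (fun ψ _ => ?_) fun j hj => ?_).symm
    · obtain ⟨j, hj, e⟩ := h.all ψ.1 ψ.2
      exact ⟨j, Finset.mem_range.2 hj, Subtype.ext e.symm⟩
    · simp only [m, dif_pos (Finset.mem_range.1 hj), Pi.smul_apply, nsmul_eq_mul]
  have h4 : 24 = ∑ j ∈ Finset.range n, m j * d j := by
    have h4 := h3 1
    rw [lchi_one, Finset.sum_congr rfl fun j hj => by rw [h.deg j (Finset.mem_range.1 hj)]] at h4
    exact_mod_cast h4
  have hz : ∀ j ∈ Finset.range n, j ∉ Finset.range 2 → m j = 0 := fun j hj hj' => by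
    have a1 : m j * d j ≤ 24 := h4 ▸ Finset.single_le_sum (f := fun j => m j * d j) (fun _ _ => Nat.zero_le _) hj
    have a2 := h2 j (Finset.mem_range.1 hj) (not_lt.1 fun a => hj' (Finset.mem_range.2 a))
    by_contra a3
    have := Nat.mul_le_mul (Nat.pos_of_ne_zero a3) a2
    omega
  have hs : Finset.range 2 ⊆ Finset.range n := Finset.range_subset_range.2 hn
  obtain ⟨h5, h6⟩ : χ 0 = 1 ∧ d 0 = 1 := by
    obtain ⟨j, hj, e⟩ := h.all 1 Core.isIrr_one
    have a1 := h.deg j hj
    rw [← e, Pi.one_apply] at a1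
    have a2 : d j = 1 := by exact_mod_cast a1.symm
    obtain rfl : j = 0 := by
      by_contra a3
      by_cases a4 : j = 1
      · rw [a4] at a2; omega
      · have := h2 j hj (by omega); omega
    exact ⟨e.symm, a2⟩
  rw [← Finset.sum_subset hs fun j hj hj' => by rw [hz j hj hj', Nat.zero_mul]] at h4
  have h7 : ∀ g, lchi f g = m 0 + m 1 * χ 1 g := fun g => by
    rw [h3 g, ← Finset.sum_subset hs fun j hj hj' => by rw [hz j hj hj', Nat.cast_zero, zero_mul]]
    simp [Finset.sum_range_succ, h5]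
  simp only [Finset.sum_range_succ, Finset.sum_range_zero, h6, h1] at h4
  have h8 : finrank ℂ (inv f) = m 0 := by
    have a1 := Core.classInner_sum_nsmul_irr c ⟨χ 0, h.irr 0 (by omega)⟩
    rw [← hc] at a1
    simp only [h5] at a1
    rw [classInner_lchi] at a1
    simp only [m, dif_pos (show 0 < n by omega), h5]
    exact_mod_cast a1
  have h9 : m 0 ≠ 24 := fun a1 => by
    obtain ⟨g, hg⟩ := hf
    have a2 : inv f = ⊤ := eq_top_of_finrank_eq (by rw [h8, a1]; simp [GolayPt])
    exact hg (Subtype.ext (Equiv.ext fun v => toC_mem_inv.1 (a2 ▸ mem_top) g))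
  obtain ⟨a1, a2⟩ : m 0 = 1 ∧ m 1 = 1 := by omega
  exact ⟨fun g => by rw [h7, a1, a2]; simp, h8.trans a1⟩

end Cfsg.Agent.SM.SpB
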